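import Cfsg.Agent.H33.Binary.Generic
import Cfsg.Agent.Linear.Dickson.Main
import Cfsg.Agent.Linear.Simple

/-!
Binary actions of PSL_2: tori, unipotent subgroups and triples of conjugate elements.
-/

set_option autoImplicit false

namespace Cfsg.Agent.H33.Binary

open Matrix Cfsg.Agent.Linear Cfsg.Agent.Linear.Dickson MulAction

variable {F : Type*} [Field F]

local notation "M2" => Matrix (Fin 2) (Fin 2) F
local notation "S2" => Matrix.SpecialLinearGroup (Fin 2) F
local notation "P2" => Matrix.ProjectiveSpecialLinearGroup (Fin 2) F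

/-- An element of SL_2 from its entries. -/
def mk2 (a b c d : F) (h : a * d - b * c = 1) : S2 := ⟨!![a, b; c, d], by rw [Matrix.det_fin_two_of, h]⟩

@[simp] theorem mk2_coe (a b c d : F) (h : a * d - b * c = 1) : ((mk2 a b c d h : S2) : M2) = !![a, b; c, d] := rfl

theorem cen_inv {x : P2} (hx : x ≠ 1) : cen x⁻¹ = cen x :=
  cen_eq_of_mem hx (inv_ne_one.mpr hx) ((cen x).inv_mem (mem_cen_self x))

theorem trace_zero_of_sq {X : S2} (h1 : proj X ≠ 1) (h2 : proj X * proj X = 1) : (X : M2).trace = 0 := by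
  have hns : ¬ IsScalarTwo (X : M2) := fun h => h1 (proj_eq_one_iff.mpr h)
  rw [← map_mul] at h2
  obtain ⟨c, hc⟩ := isScalarTwo_iff.mp (proj_eq_one_iff.mp h2)
  by_contra ht
  refine hns (isScalarTwo_iff.mpr ⟨(c + 1) / (X : M2).trace, ?_⟩)
  rw [Matrix.SpecialLinearGroup.coe_mul, SL_sq_eq, sub_eq_iff_eq_add] at hc
  rw [div_eq_inv_mul, ← smul_smul, add_smul, one_smul, ← hc, smul_smul, inv_mul_cancel₀ ht, one_smul]

theorem proj_conj_of_trace [Fintype F] {X Y : S2} (ht : (X : M2).trace ^ 2 ≠ 4)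
    (h : (Y : M2).trace = (X : M2).trace ∨ (Y : M2).trace = -(X : M2).trace) :
    ∃ g : P2, g * proj X * g⁻¹ = proj Y := by
  have key : ∀ Z : S2, (Z : M2).trace = (X : M2).trace → proj Z = proj Y →
      ∃ g : P2, g * proj X * g⁻¹ = proj Y := by
    intro Z hZ e
    obtain ⟨g, hg⟩ := isConj_iff.mp (isConj_of_trace_eq (not_isScalarTwo_of_trace ht)
      (not_isScalarTwo_of_trace (by rwa [hZ])) hZ.symm (Or.inr ht))
    exact ⟨proj g, by rw [← map_inv, ← map_mul, ← map_mul, hg, e]⟩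
  rcases h with e | e
  · exact key Y e rfl
  · exact key (-Y) (by simp [e]) (proj_neg Y)

theorem isConj_invol [Fintype F] (a b : P2) (ha : a ≠ 1) (ha2 : a * a = 1) (hb : b ≠ 1) (hb2 : b * b = 1) :
    IsConj a b := by
  obtain ⟨X, rfl⟩ := proj_surjective a
  obtain ⟨Y, rfl⟩ := proj_surjective b
  have tX := trace_zero_of_sq ha ha2
  have tY := trace_zero_of_sq hb hb2
  have hs : (2 : F) = 0 ∨ (X : M2).trace ^ 2 ≠ 4 := by
    by_cases h2 : (2 : F) = 0
    · exact Or.inl h2
    · right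
      rw [tX]
      intro e
      have : (2 : F) * 2 = 0 := by linear_combination -e
      exact h2 (mul_self_eq_zero.mp this)
  obtain ⟨g, hg⟩ := isConj_iff.mp (isConj_of_trace_eq (fun h => ha (proj_eq_one_iff.mpr h))
    (fun h => hb (proj_eq_one_iff.mpr h)) (tX.trans tY.symm) hs)
  exact isConj_iff.mpr ⟨proj g, by rw [← map_inv, ← map_mul, ← map_mul, hg]⟩

theorem exists_trace_pair [Fintype F] {t : F} (ht : t ^ 2 ≠ 4) (u : F) :
    ∃ Y : S2, (Y : M2).trace = t ∧ ((compSL t * Y : S2) : M2).trace = u := by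
  obtain ⟨a, c, hac⟩ : ∃ a c : F, a ^ 2 + t * a * c - t * a + c ^ 2 + (u - t ^ 2) * c + 1 = 0 := by
    by_cases h2 : (2 : F) = 0
    · have : CharP F 2 := CharTwo.of_one_ne_zero_of_two_eq_zero one_ne_zero h2
      obtain ⟨a, ha⟩ := bijective_frobenius F 2 |>.2 (-(u - t ^ 2 + 2))
      rw [frobenius_def] at ha
      exact ⟨a, 1, by linear_combination ha⟩
    · obtain ⟨f, hf⟩ : ∃ f : Polynomial F, f = Polynomial.C 1 * Polynomial.X ^ 2 + Polynomial.C 0 * Polynomial.X
          + Polynomial.C 0 := ⟨_, rfl⟩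
      obtain ⟨g, hg⟩ : ∃ g : Polynomial F, g = Polynomial.C (1 - t ^ 2 / 4) * Polynomial.X ^ 2
          + Polynomial.C (u - t ^ 2 + t ^ 2 / 2) * Polynomial.X + Polynomial.C (1 - t ^ 2 / 4) := ⟨_, rfl⟩
      have h4 : (4 : F) ≠ 0 := by
        rw [show (4 : F) = 2 * 2 by norm_num]
        exact mul_ne_zero h2 h2
      have hA : (1 : F) - t ^ 2 / 4 ≠ 0 := by
        intro e
        field_simp at e
        exact ht (by linear_combination -e)
      have hodd : Fintype.card F % 2 = 1 := FiniteField.odd_card_of_char_ne_two fun e => by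
        have : CharP F 2 := e ▸ ringChar.charP F
        exact h2 CharTwo.two_eq_zero
      obtain ⟨v, c, hvc⟩ := FiniteField.exists_root_sum_quadratic (f := f) (g := g)
        (by rw [hf]; exact Polynomial.degree_quadratic one_ne_zero)
        (by rw [hg]; exact Polynomial.degree_quadratic hA) hodd
      rw [hf, hg] at hvc
      simp at hvc
      refine ⟨v - t * (c - 1) / 2, c, ?_⟩
      field_simp at hvc ⊢
      apply mul_left_cancel₀ h2
      linear_combination hvc
  refine ⟨mk2 a (u + c - t * (t - a)) c (t - a) ?_, ?_, ?_⟩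
  · linear_combination -hac
  · simp [Matrix.trace_fin_two]
  · rw [Matrix.trace_fin_two, Matrix.SpecialLinearGroup.coe_mul, mul_two_apply, mul_two_apply]
    simp [compSL_coe] <;> ring

/-- A second conjugate making a conjugate product. -/
theorem exists_second [Fintype F] {x : P2} (hx : ¬ IsUni x)
    (hexc : ∀ X : S2, proj X = x → (2 : F) = 0 → (X : M2).trace = 1 → ∃ c : F, c ^ 2 + c + 1 = 0) :
    ∃ y : P2, (∃ g : P2, g * x * g⁻¹ = y) ∧ (∃ g : P2, g * x * g⁻¹ = x * y) ∧ y ∉ cen x := by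
  obtain ⟨X, rfl⟩ := proj_surjective x
  have ht : (X : M2).trace ^ 2 ≠ 4 := fun h => hx (isUni_proj.mpr h)
  obtain ⟨t, htd⟩ : ∃ t : F, t = (X : M2).trace := ⟨_, rfl⟩
  rw [← htd] at ht
  -- transport from any matrix of the same trace
  suffices ∃ X' Y : S2, (X' : M2).trace = t ∧ (Y : M2).trace = t ∧
      (((X' * Y : S2) : M2).trace = t ∨ ((X' * Y : S2) : M2).trace = -t) ∧
      Y ∉ Subgroup.centralizer ({X'} : Set S2) by
    obtain ⟨X', Y, hX', hY, hXY, hnc⟩ := this
    obtain ⟨c, hc⟩ := isConj_iff.mp (isConj_of_trace_eq (not_isScalarTwo_of_trace (by rwa [hX']))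
      (not_isScalarTwo_of_trace (by rwa [← htd])) (by rw [hX', htd]) (Or.inr (by rwa [hX'])))
    refine ⟨proj (c * Y * c⁻¹), proj_conj_of_trace (by rwa [← htd]) (Or.inl ?_), ?_, ?_⟩
    · rw [Linear.trace_conj, hY, htd]
    · rw [← map_mul]
      refine proj_conj_of_trace (by rwa [← htd]) ?_
      rw [← hc, show c * X' * c⁻¹ * (c * Y * c⁻¹) = c * (X' * Y) * c⁻¹ by group, Linear.trace_conj]
      rw [hc, ← htd]
      exact hXY
    · rw [mem_cen_proj, ← hc, Subgroup.mem_centralizer_singleton_iff]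
      intro e
      refine hnc (Subgroup.mem_centralizer_singleton_iff.mpr ?_)
      calc Y * X' = c⁻¹ * (c * Y * c⁻¹ * (c * X' * c⁻¹)) * c := by group
        _ = X' * Y := by rw [e]; group
  by_cases hgen : (2 : F) ≠ 0 ∨ t ≠ 1
  · obtain ⟨u, hu, hu2, hut⟩ : ∃ u : F, (u = t ∨ u = -t) ∧ u ≠ 2 ∧ u ≠ t ^ 2 - 2 := by
      have hp : t ≠ 2 := fun e => ht (by rw [e]; norm_num)
      have hm : -t ≠ 2 := fun e => ht (by rw [show t = -2 by linear_combination -e]; norm_num)
      by_cases h1 : t = t ^ 2 - 2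
      · refine ⟨-t, Or.inr rfl, hm, fun h2' => ?_⟩
        have h0 : (2 : F) * t = 0 := by linear_combination h1 - h2'
        rcases mul_eq_zero.mp h0 with h2 | ht0
        · refine hgen.elim (fun h => h h2) (fun h => ?_)
          have : t * (t - 1) = 0 := by linear_combination -h1 + h2
          rcases mul_eq_zero.mp this with e | e
          · exact hp (by rw [e, h2])
          · exact h (sub_eq_zero.mp e)
        · exact hp (by rw [ht0] at h1 ⊢; linear_combination -h1)
      · exact ⟨t, Or.inl rfl, hp, h1⟩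
    obtain ⟨Y, hY, hXY⟩ := exists_trace_pair ht u
    refine ⟨compSL t, Y, trace_compSL t, hY, by rw [hXY]; exact hu, fun hm => ?_⟩
    rcases eq_or_eq_inv_of_trace (g := (compSL t : S2)) (by rwa [trace_compSL]) hm (by rw [hY, trace_compSL]) with
      e | e
    · rw [e, Matrix.SpecialLinearGroup.coe_mul, SL_sq_eq, trace_compSL] at hXY
      simp [Matrix.trace_fin_two, compSL_coe] at hXY
      exact hut (by linear_combination -hXY)
    · rw [e, mul_inv_cancel] at hXY
      simp [Matrix.trace_fin_two] at hXY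
      exact hu2 (by linear_combination -hXY)
  · push Not at hgen
    obtain ⟨h2, ht1⟩ := hgen
    obtain ⟨c, hc⟩ := hexc X rfl h2 (htd ▸ ht1)
    let D : S2 := mk2 c 0 0 (c + 1) (by linear_combination hc - h2)
    let Y : S2 := mk2 c 1 0 (c + 1) (by linear_combination hc - h2)
    refine ⟨D, Y, ?_, ?_, Or.inl ?_, ?_⟩
    · simp [D, Matrix.trace_fin_two, ht1]; linear_combination c * h2
    · simp [Y, Matrix.trace_fin_two, ht1]; linear_combination c * h2
    · rw [Matrix.SpecialLinearGroup.coe_mul, Matrix.trace_fin_two, mul_two_apply, mul_two_apply]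
      simp [D, Y, ht1]
      linear_combination 2 * hc - h2
    · rw [Subgroup.mem_centralizer_singleton_iff]
      intro e
      have := congrArg (fun Z : S2 => (Z : M2) 0 1) e
      simp only [Matrix.SpecialLinearGroup.coe_mul, mul_two_apply] at this
      simp [D, Y] at this

section Action

variable {Ω : Type*} [MulAction (Matrix.ProjectiveSpecialLinearGroup (Fin 2) F) Ω] [Finite Ω]

/-- Three elements with pointwise stabilisers inside their partition members. -/
theorem not_binary_of_cen {x y : P2} (hx : x ≠ 1) (hy : y ≠ 1) (hg : x * y ≠ 1) (hyx : y ∉ cen x)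
    (hfx : ∃ ω : Ω, x • ω = ω) (hfg : ∃ ω : Ω, (x * y) • ω = ω)
    (hWx : pw Ω x ≤ cen x) (hWy : pw Ω y ≤ cen y) (hWg : pw Ω (x * y) ≤ cen (x * y)) :
    ¬ IsBinaryAct P2 Ω := by
  refine not_binary_of_triple (a := x * y) (b := x) (c := y) (x := x * y) (b' := x) (c' := y) hfg hfx
    (self_mem_pw _) (self_mem_pw x) (self_mem_pw y) rfl (fun k hk hk' hk'' => ?_)
  by_cases hk1 : k = 1
  · rw [hk1, inv_one, one_mul] at hk''
    have h1 : x ∈ cen y := by simpa using (cen y).mul_mem (hWy hk'') ((cen y).inv_mem (mem_cen_self y))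
    exact hyx (cen_eq_of_mem hy hx h1 ▸ mem_cen_self y)
  · have h1 := cen_eq_of_mem hg hk1 (hWg hk)
    have h2 := cen_eq_of_mem hx hk1 (hWx hk')
    have h3 : x * y ∈ cen x := by rw [← h2, h1]; exact mem_cen_self _
    exact hyx ((Subgroup.mul_mem_cancel_left _ (mem_cen_self x)).mp h3)

omit [Finite Ω] in
theorem pw_le_cen_conj {x : P2} (g : P2) (h : pw Ω x ≤ cen x) :
    pw Ω (g * x * g⁻¹) ≤ cen (g * x * g⁻¹) := by
  intro k hk
  have := (mem_cen_conj g x (g⁻¹ * k * g)).mpr (h (mem_pw_conj.mp hk))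
  simpa [mul_assoc] using this

/-- A semisimple element with small pointwise stabiliser. -/
theorem not_binary_of_semisimple [Fintype F] {x : P2} (hx : ¬ IsUni x) (hfix : ∃ ω : Ω, x • ω = ω)
    (hW : pw Ω x ≤ cen x)
    (hexc : ∀ X : S2, proj X = x → (2 : F) = 0 → (X : M2).trace = 1 → ∃ c : F, c ^ 2 + c + 1 = 0) :
    ¬ IsBinaryAct P2 Ω := by
  obtain ⟨y, ⟨g, hg⟩, ⟨g', hg'⟩, hyx⟩ := exists_second hx hexc
  have hx1 := ne_one_of_not_isUni hx
  refine not_binary_of_cen hx1 ?_ ?_ hyx hfix (hg' ▸ exists_fixed_conj g' hfix) hW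
    (hg ▸ pw_le_cen_conj g hW) (hg' ▸ pw_le_cen_conj g' hW)
  · intro e; exact hyx (e ▸ (cen x).one_mem)
  · rw [← hg']
    intro e
    rw [conj_eq_one_iff] at e
    exact hx1 e

/-- A unipotent element with small pointwise stabiliser in odd characteristic. -/
theorem not_binary_of_upSL {b : F} (hb : b ≠ 0) (h2 : (2 : F) ≠ 0)
    (hfix : ∃ ω : Ω, proj (upSL b) • ω = ω) (hW : pw Ω (proj (upSL b)) ≤ cen (proj (upSL b))) :
    ¬ IsBinaryAct P2 Ω := by
  obtain ⟨u, hu⟩ : ∃ u : P2, u = proj (upSL b) := ⟨_, rfl⟩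
  rw [← hu] at hfix hW
  have hu1 : u ≠ 1 := hu ▸ fun e => not_isScalarTwo_upSL hb (proj_eq_one_iff.mp e)
  let P : S2 := mk2 0 (b / 2) (-2 / b) 0 (by field_simp; ring)
  let Q : S2 := mk2 1 0 (2 / b) 1 (by ring)
  have hP : proj P * u * (proj P)⁻¹ = proj (loSL (-4 / b)) ∨ proj P * u⁻¹ * (proj P)⁻¹ = proj (loSL (-4 / b)) := by
    left
    rw [hu, ← map_inv, ← map_mul, ← map_mul]
    congr 1
    rw [mul_inv_eq_iff_eq_mul]
    apply SL_ext_two <;> simp [P, SL_mul_entries, upSL_coe, loSL_coe] <;> field_simp <;> ring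
  have hQ : proj Q * u⁻¹ * (proj Q)⁻¹ = proj (upSL b * loSL (-4 / b)) := by
    rw [hu, ← map_inv, ← map_inv, ← map_mul, ← map_mul, ← proj_neg (upSL b * loSL (-4 / b))]
    congr 1
    rw [mul_inv_eq_iff_eq_mul]
    obtain ⟨i00, i11, i01, i10⟩ := SL_inv_entries (upSL b : S2)
    apply SL_ext_two <;> simp [Q, SL_mul_entries, i00, i11, i01, i10, upSL_coe, loSL_coe] <;>
      field_simp <;> ring
  have hfi := exists_fixed_inv hfix
  have hWi : pw Ω u⁻¹ ≤ cen u⁻¹ := by rw [pw_inv, cen_inv hu1]; exact hW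
  rw [map_mul, ← hu] at hQ
  refine not_binary_of_cen (x := u) (y := proj (loSL (-4 / b))) hu1 ?_ ?_ ?_ hfix
    (hQ ▸ exists_fixed_conj _ hfi) hW ?_ (hQ ▸ pw_le_cen_conj _ hWi)
  · intro e
    have := (proj_eq_one_iff.mp e).2.1
    simp [loSL_coe, hb] at this
    exact h2 (mul_self_eq_zero.mp (show (2 : F) * 2 = 0 by linear_combination this))
  · rw [← hQ]
    intro e
    rw [conj_eq_one_iff, inv_eq_one] at e
    exact hu1 e
  · rw [hu, mem_cen_proj, Subgroup.mem_centralizer_singleton_iff]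
    intro e
    have := congrArg (fun Z : S2 => (Z : M2) 0 0) e
    simp [SL_mul_entries, upSL_coe, loSL_coe, hb] at this
    exact h2 (mul_self_eq_zero.mp (show (2 : F) * 2 = 0 by linear_combination this))
  · rcases hP with e | e
    · exact e ▸ pw_le_cen_conj _ hW
    · exact e ▸ pw_le_cen_conj _ hWi

end Action

end Cfsg.Agent.H33.Binary
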