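import Mathlib

/-!
Relational complexity two: general criteria through pointwise stabilisers of fixed-point sets.
-/

set_option autoImplicit false

open MulAction

namespace Cfsg.Agent.H33.Binary

variable {G Ω : Type*} [Group G] [MulAction G Ω]

/-- The action has relational complexity at most two. -/
def IsBinaryAct (G Ω : Type*) [Group G] [MulAction G Ω] : Prop :=
  ∀ (n : ℕ) (I J : Fin n → Ω), 2 ≤ n →
    (∀ i j : Fin n, i ≠ j → ∃ g : G, g • I i = J i ∧ g • I j = J j) → ∃ g : G, ∀ i, g • I i = J i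

/-- The pointwise stabiliser of the fixed points of an element. -/
def pw (Ω : Type*) [MulAction G Ω] (x : G) : Subgroup G := fixingSubgroup G (fixedBy Ω x)

theorem mem_pw {x k : G} : k ∈ pw Ω x ↔ ∀ ω : Ω, x • ω = ω → k • ω = ω := mem_fixingSubgroup_iff G

theorem self_mem_pw (x : G) : x ∈ pw Ω x := mem_pw.mpr fun _ h => h

theorem pw_le_of_mem {x y : G} (h : y ∈ pw Ω x) : pw Ω y ≤ pw Ω x := fun _ hk =>
  mem_pw.mpr fun ω hω => mem_pw.mp hk ω (mem_pw.mp h ω hω)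

theorem pw_le_stabilizer {x : G} {ω : Ω} (h : x • ω = ω) : pw Ω x ≤ stabilizer G ω :=
  fun _ hk => mem_pw.mp hk ω h

theorem pw_inv (x : G) : pw Ω x⁻¹ = pw Ω x := by
  ext k
  simp only [mem_pw, inv_smul_eq_iff]
  exact ⟨fun h ω hω => h ω hω.symm, fun h ω hω => h ω hω.symm⟩

theorem mem_pw_conj {g x k : G} : k ∈ pw Ω (g * x * g⁻¹) ↔ g⁻¹ * k * g ∈ pw Ω x := by
  simp only [mem_pw]
  constructor
  · intro h ω hω
    rw [mul_smul, mul_smul, inv_smul_eq_iff]
    exact h (g • ω) (by rw [mul_smul, mul_smul, inv_smul_smul, hω])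
  · intro h ω hω
    rw [mul_smul, mul_smul] at hω
    have h' := h (g⁻¹ • ω) (eq_inv_smul_iff.mpr hω)
    rw [mul_smul, mul_smul, smul_inv_smul] at h'
    exact MulAction.injective g⁻¹ h'

theorem pw_conj (g x : G) : pw Ω (g * x * g⁻¹) = (pw Ω x).map (MulAut.conj g).toMonoidHom := by
  ext k
  rw [mem_pw_conj, Subgroup.mem_map_equiv, MulAut.conj_symm_apply]

theorem exists_fixed_conj {x : G} (g : G) (h : ∃ ω : Ω, x • ω = ω) :
    ∃ ω : Ω, (g * x * g⁻¹) • ω = ω := by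
  obtain ⟨ω, hω⟩ := h
  exact ⟨g • ω, by rw [mul_smul, mul_smul, inv_smul_smul, hω]⟩

theorem exists_fixed_inv {x : G} (h : ∃ ω : Ω, x • ω = ω) : ∃ ω : Ω, x⁻¹ • ω = ω :=
  h.imp fun _ hω => inv_smul_eq_iff.mpr hω.symm

/-- An element commuting with x normalises the pointwise stabiliser of its fixed points. -/
theorem conj_mem_pw {g x k : G} (h : g * x * g⁻¹ = x ∨ g * x * g⁻¹ = x⁻¹) (hk : k ∈ pw Ω x) :
    g * k * g⁻¹ ∈ pw Ω x := by
  have h1 : g * k * g⁻¹ ∈ pw Ω (g * x * g⁻¹) := by rw [mem_pw_conj]; simpa [mul_assoc] using hk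
  rcases h with e | e <;> rw [e] at h1
  · exact h1
  · rwa [pw_inv] at h1

theorem mem_normalizer_pw {g x : G} (h : g * x * g⁻¹ = x ∨ g * x * g⁻¹ = x⁻¹) :
    g ∈ Subgroup.normalizer (pw Ω x : Set G) := by
  have h' : g⁻¹ * x * g⁻¹⁻¹ = x ∨ g⁻¹ * x * g⁻¹⁻¹ = x⁻¹ := by
    rcases h with e | e
    · left; conv_lhs => rw [← e]
      group
    · right
      have e' : g * x⁻¹ * g⁻¹ = x := by simpa [mul_assoc] using congrArg (·⁻¹) e
      conv_lhs => rw [← e']
      group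
  rw [Subgroup.mem_normalizer_iff]
  refine fun k => ⟨conj_mem_pw h, fun hk => ?_⟩
  have := conj_mem_pw h' hk
  simpa [mul_assoc] using this

/-- Three pointwise stabilisers refuting binarity. -/
theorem not_binary_of_triple [Finite Ω] {a b c x b' c' : G} (hfa : ∃ ω : Ω, a • ω = ω)
    (hfb : ∃ ω : Ω, b • ω = ω) (hx : x ∈ pw Ω a) (hb : b' ∈ pw Ω b) (hc : c' ∈ pw Ω c)
    (he : x = b' * c') (hno : ∀ k ∈ pw Ω a, k ∈ pw Ω b → k⁻¹ * x ∉ pw Ω c) : ¬ IsBinaryAct G Ω := by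
  intro hbin
  classical
  let P := (fixedBy Ω a ⊕ fixedBy Ω b) ⊕ fixedBy Ω c
  have : Fintype P := Fintype.ofFinite P
  let e := Fintype.equivFin P
  let I₀ : P → Ω := Sum.elim (Sum.elim (fun p => p.1) (fun p => p.1)) (fun p => p.1)
  let J₀ : P → Ω := Sum.elim (Sum.elim (fun p => p.1) (fun p => p.1)) (fun p => x • p.1)
  have hn : 2 ≤ Fintype.card P := by
    obtain ⟨ω₁, h₁⟩ := hfa
    obtain ⟨ω₂, h₂⟩ := hfb
    exact Fintype.one_lt_card_iff.mpr ⟨Sum.inl (Sum.inl ⟨ω₁, h₁⟩), Sum.inl (Sum.inr ⟨ω₂, h₂⟩), by simp [P]⟩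
  have hbc : ∀ p : fixedBy Ω c, b' • (p.1 : Ω) = x • p.1 := fun p => by
    rw [he, mul_smul, mem_pw.mp hc _ p.2]
  have hpair : ∀ p q : P, ∃ g : G, g • I₀ p = J₀ p ∧ g • I₀ q = J₀ q := by
    rintro ((p | p) | p) ((q | q) | q)
    · exact ⟨1, one_smul _ _, one_smul _ _⟩
    · exact ⟨1, one_smul _ _, one_smul _ _⟩
    · exact ⟨x, mem_pw.mp hx _ p.2, rfl⟩
    · exact ⟨1, one_smul _ _, one_smul _ _⟩
    · exact ⟨1, one_smul _ _, one_smul _ _⟩
    · exact ⟨b', mem_pw.mp hb _ p.2, hbc q⟩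
    · exact ⟨x, rfl, mem_pw.mp hx _ q.2⟩
    · exact ⟨b', hbc p, mem_pw.mp hb _ q.2⟩
    · exact ⟨x, rfl, rfl⟩
  obtain ⟨k, hk⟩ := hbin (Fintype.card P) (I₀ ∘ e.symm) (J₀ ∘ e.symm) hn (fun i j _ => hpair _ _)
  have hk' : ∀ p : P, k • I₀ p = J₀ p := fun p => by simpa using hk (e p)
  refine hno k (mem_pw.mpr fun ω hω => hk' (Sum.inl (Sum.inl ⟨ω, hω⟩)))
    (mem_pw.mpr fun ω hω => hk' (Sum.inl (Sum.inr ⟨ω, hω⟩))) (mem_pw.mpr fun ω hω => ?_)
  rw [mul_smul, inv_smul_eq_iff]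
  exact (hk' (Sum.inr ⟨ω, hω⟩)).symm

/-- An involution whose pointwise stabiliser has exponent two and misses a commuting involution. -/
theorem not_binary_of_invol [Finite G] [Finite Ω] {s u : G}
    (hconj : ∀ a b : G, a ≠ 1 → a * a = 1 → b ≠ 1 → b * b = 1 → IsConj a b)
    (hs : s ≠ 1) (hs2 : s * s = 1) (hu : u * u = 1) (hsu : s * u = u * s) (hfix : ∃ ω : Ω, s • ω = ω)
    (hexp : ∀ k ∈ pw Ω s, k * k = 1) (hnot : u ∉ pw Ω s) : ¬ IsBinaryAct G Ω := by
  have hu1 : u ≠ 1 := fun e => hnot (e ▸ one_mem _)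
  have hy1 : u * s ≠ 1 := fun e => hnot (by
    have h : u = s⁻¹ := eq_inv_of_mul_eq_one_left e
    rw [h]
    exact inv_mem (self_mem_pw s))
  have hy2 : u * s * (u * s) = 1 := by
    calc u * s * (u * s) = u * (s * u) * s := by group
      _ = u * u * (s * s) := by rw [hsu]; group
      _ = 1 := by rw [hu, hs2, one_mul]
  have hall : ∀ v : G, v ≠ 1 → v * v = 1 → (∃ ω : Ω, v • ω = ω) ∧ (∀ k ∈ pw Ω v, k * k = 1) ∧
      Nat.card (pw Ω v) = Nat.card (pw Ω s) := by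
    intro v hv hv2
    obtain ⟨g, rfl⟩ := isConj_iff.mp (hconj s v hs hs2 hv hv2)
    refine ⟨exists_fixed_conj g hfix, fun k hk => ?_, ?_⟩
    · have := hexp _ (mem_pw_conj.mp hk)
      calc k * k = g * ((g⁻¹ * k * g) * (g⁻¹ * k * g)) * g⁻¹ := by group
        _ = 1 := by rw [this]; group
    · rw [pw_conj]
      exact Subgroup.card_map_of_injective (MulAut.conj g).injective
  have heq : ∀ v w : G, v ≠ 1 → v * v = 1 → w ≠ 1 → w * w = 1 → v ∈ pw Ω w → pw Ω v = pw Ω w :=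
    fun v w hv hv2 hw hw2 h => Subgroup.eq_of_le_of_card_ge (pw_le_of_mem h)
      (by rw [(hall v hv hv2).2.2, (hall w hw hw2).2.2])
  refine not_binary_of_triple (a := s) (b := u) (c := u * s) (x := s) (b' := u) (c' := u * s) hfix
    (hall u hu1 hu).1 (self_mem_pw s) (self_mem_pw u) (self_mem_pw _)
    (by rw [← mul_assoc, hu, one_mul]) (fun k hk hk' hk'' => ?_)
  by_cases hk1 : k = 1
  · rw [hk1, inv_one, one_mul] at hk''
    have h1 := heq s (u * s) hs hs2 hy1 hy2 hk''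
    refine hnot ?_
    have h2 := self_mem_pw (Ω := Ω) (u * s)
    rw [← h1] at h2
    simpa [mul_assoc, hs2] using mul_mem h2 (self_mem_pw s)
  · have hk2 := hexp k hk
    have h1 := heq k s hk1 hk2 hs hs2 hk
    have h2 := heq k u hk1 hk2 hu1 hu hk'
    exact hnot (h1 ▸ h2.symm ▸ self_mem_pw u)

/-- An action all of whose point stabilisers are trivial is binary. -/
theorem binary_of_free (h : ∀ (g : G) (ω : Ω), g • ω = ω → g = 1) : IsBinaryAct G Ω := by
  intro n I J hn hp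
  obtain ⟨g, hg0, -⟩ := hp ⟨0, by omega⟩ ⟨1, by omega⟩ (by simp)
  refine ⟨g, fun i => ?_⟩
  by_cases hi : i = ⟨0, by omega⟩
  · rw [hi]; exact hg0
  · obtain ⟨k, hk0, hk1⟩ := hp ⟨0, by omega⟩ i (Ne.symm hi)
    have := h (k⁻¹ * g) _ (by rw [mul_smul, hg0, ← hk0, inv_smul_smul])
    rwa [inv_mul_eq_one.mp this] at hk1

/-- Binarity for stabilisers forming a trivial-intersection family in which elements of different
members never multiply into a third member. -/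
theorem binary_of_ti
    (hti : ∀ (p q : Ω) (a b : G), a ≠ 1 → b ≠ 1 → a • p = p → b • q = q → a * b = b * a →
      stabilizer G p = stabilizer G q)
    (hcomm : ∀ (p q r : Ω) (d f : G), d ≠ 1 → f ≠ 1 → d • p = p → f • q = q → (d * f) • r = r →
      d * f = f * d) :
    IsBinaryAct G Ω := by
  intro n I J hn hp
  set i₀ : Fin n := ⟨0, by omega⟩
  have hch : ∀ i : Fin n, ∃ g : G, g • I i₀ = J i₀ ∧ g • I i = J i := by
    intro i
    by_cases hi : i₀ = i
    · subst hi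
      obtain ⟨g, hg, -⟩ := hp i₀ ⟨1, by omega⟩ (by simp [i₀])
      exact ⟨g, hg, hg⟩
    · exact hp i₀ i hi
  choose g hg0 hgi using hch
  have hd : ∀ i j, ((g i)⁻¹ * g j) • I i₀ = I i₀ := fun i j => by
    rw [mul_smul, hg0 j, inv_smul_eq_iff, hg0 i]
  have hsame : ∀ p q : Ω, stabilizer G p = stabilizer G q → ∀ a : G, a • p = p → a • q = q :=
    fun p q h a ha => mem_stabilizer_iff.mp (h ▸ (mem_stabilizer_iff.mpr ha))
  by_cases hall : ∀ i, stabilizer G (I i) = stabilizer G (I i₀)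
  · refine ⟨g i₀, fun i => ?_⟩
    have := hsame _ _ (hall i).symm _ (hd i i₀)
    rwa [mul_smul, inv_smul_eq_iff, hgi i] at this
  push Not at hall
  obtain ⟨i, hi⟩ := hall
  refine ⟨g i, fun j => ?_⟩
  set d := (g i)⁻¹ * g j with hdd
  suffices hdj : d • I j = I j by
    rw [hdd, mul_smul, hgi j, inv_smul_eq_iff] at hdj
    exact hdj.symm
  by_cases hj : stabilizer G (I j) = stabilizer G (I i₀)
  · exact hsame _ _ hj.symm _ (hd i j)
  by_cases hji : i = j
  · subst hji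
    simp [hdd]
  obtain ⟨g', hg'i, hg'j⟩ := hp i j hji
  set e := (g i)⁻¹ * g' with he
  set f := (g j)⁻¹ * g' with hf
  have he' : e • I i = I i := by rw [he, mul_smul, hg'i, inv_smul_eq_iff, hgi i]
  have hf' : f • I j = I j := by rw [hf, mul_smul, hg'j, inv_smul_eq_iff, hgi j]
  have hdf : e = d * f := by rw [hdd, he, hf]; group
  suffices hd1 : d = 1 by rw [hd1, one_smul]
  by_contra hd1
  have hf1 : f ≠ 1 := by
    intro hf1
    rw [hf1, mul_one] at hdf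
    rw [hdf] at he'
    exact hi (hti _ _ d d hd1 hd1 he' (hd i j) rfl)
  exact hj (hti _ _ f d hf1 hd1 hf' (hd i j)
    (hcomm _ _ _ d f hd1 hf1 (hd i j) hf' (hdf ▸ he')).symm)

end Cfsg.Agent.H33.Binary
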