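import Cfsg.Agent.H33.Binary.PSLTools
import Cfsg.Agent.Linear.Dickson.MaxExtra

/-!
Binary actions of PSL_2: point stabilisers meeting unipotent subgroups, tori and torus normalisers.
-/

set_option autoImplicit false

namespace Cfsg.Agent.H33.Binary

open Matrix Cfsg.Agent.Linear Cfsg.Agent.Linear.Dickson MulAction

variable {F : Type*} [Field F] [Fintype F]

local notation "M2" => Matrix (Fin 2) (Fin 2) F
local notation "S2" => Matrix.SpecialLinearGroup (Fin 2) F
local notation "P2" => Matrix.ProjectiveSpecialLinearGroup (Fin 2) F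

theorem isSimple_P2 (h4 : 4 ≤ Fintype.card F) : IsSimpleGroup P2 :=
  isSimpleGroup_PSL_fin le_rfl (fun _ => by rwa [Nat.card_eq_fintype_card])

theorem eq_top_of_uni {K : Subgroup P2} (hU : cen (stdUni : P2) ≤ K) {w : P2} (hw : w ∈ K)
    (hwb : w ∉ borel F) : K = ⊤ := by
  obtain ⟨g, rfl⟩ := proj_surjective w
  have hg : (g : M2) 1 0 ≠ 0 := fun e => hwb (mem_borel_proj.mpr e)
  have hu : unitriSL 2 F ≤ K.comap proj := fun x hx => by
    obtain ⟨h10, h00, h11⟩ := unitriSL_two_eq.mp hx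
    exact hU (mem_cen_stdUni.mpr ⟨h10, by rw [h00, h11]⟩)
  have htop : K.comap proj = ⊤ := by
    rw [eq_top_iff, ← unitriSL_sup_conj_eq_top hg]
    refine sup_le hu (fun x hx => ?_)
    rw [Subgroup.mem_pointwise_smul_iff_inv_smul_mem] at hx
    have h1 := hu hx
    rw [Subgroup.mem_comap, ← map_inv (MulAut.conj), MulAut.smul_def, MulAut.conj_apply, inv_inv, map_mul, map_mul, map_inv]
      at h1
    show proj x ∈ K
    simpa [mul_assoc] using K.mul_mem (K.mul_mem hw h1) (K.inv_mem hw)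
  rw [eq_top_iff]
  rintro k -
  obtain ⟨z, rfl⟩ := proj_surjective k
  exact (htop ▸ Subgroup.mem_top z : z ∈ K.comap proj)

theorem uni_le_of_mem {W : Subgroup P2} (hN : ∀ v ∈ cen (stdUni : P2), ∀ k ∈ W, v * k * v⁻¹ ∈ W) {r : P2}
    (hr : r ∈ W) (hrb : r ∈ borel F) (hrU : r ∉ cen (stdUni : P2)) : cen (stdUni : P2) ≤ W := by
  set U := cen (stdUni : P2) with hU
  have hmem : ∀ v ∈ U, v * r * v⁻¹ * r⁻¹ ∈ U := fun v hv => by
    rw [mul_assoc v, mul_assoc v]
    exact U.mul_mem hv (conj_mem_cen_stdUni hrb (U.inv_mem hv))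
  let f : U → U := fun v => ⟨_, hmem v v.2⟩
  have hf : Function.Injective f := by
    rintro ⟨v, hv⟩ ⟨v', hv'⟩ h
    have h' : v * r * v⁻¹ = v' * r * v'⁻¹ := mul_right_cancel (congrArg Subtype.val h)
    by_contra hne
    have h1 : v'⁻¹ * v ≠ 1 := fun e => hne (Subtype.ext (inv_mul_eq_one.mp e).symm)
    refine hrU (mem_cen_stdUni_of_commute hrb (U.mul_mem (U.inv_mem hv') hv) h1 ?_)
    calc r * (v'⁻¹ * v) = v'⁻¹ * (v' * r * v'⁻¹) * v := by group
      _ = v'⁻¹ * (v * r * v⁻¹) * v := by rw [h']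
      _ = _ := by group
  intro z hz
  obtain ⟨⟨v, hv⟩, e⟩ := Finite.surjective_of_injective hf ⟨z, hz⟩
  rw [← show v * r * v⁻¹ * r⁻¹ = z from congrArg Subtype.val e]
  exact W.mul_mem (hN v hv r hr) (W.inv_mem hr)

theorem three_le_card_cen (h4 : 4 ≤ Fintype.card F) (h5 : Fintype.card F ≠ 5) {x : P2} (hx : ¬ IsUni x) :
    3 ≤ Nat.card (cen x) := by
  have h1 := Nat.gcd_dvd_left 2 (Fintype.card F - 1)
  have h2 := Nat.gcd_dvd_right 2 (Fintype.card F - 1)
  rcases (Nat.dvd_prime Nat.prime_two).mp h1 with d | d <;> rw [d] at h2 <;>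
    rcases card_cen_cases hx with e | e <;> rw [e, d] <;> omega

theorem exists_sq_ne_one {x : P2} (h3 : 3 ≤ Nat.card (cen x)) (hx : ¬ IsUni x) :
    ∃ t ∈ cen x, t * t ≠ 1 := by
  have := isCyclic_cen hx
  obtain ⟨t, ht⟩ := IsCyclic.exists_ofOrder_eq_natCard (α := cen x)
  refine ⟨t, t.2, fun e => ?_⟩
  have : orderOf t ∣ 2 := orderOf_dvd_of_pow_eq_one (Subtype.ext (by rw [Subgroup.coe_pow, sq]; exact e))
  have := Nat.le_of_dvd two_pos this
  omega

theorem conj_eq_or_inv {x g : P2} (hx : ¬ IsUni x) (hg : g ∈ Subgroup.normalizer (cen x : Set P2)) :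
    g * x * g⁻¹ = x ∨ g * x * g⁻¹ = x⁻¹ := by
  rcases normalizer_cases hx (Subgroup.mem_normalizer_iff.mp hg) with h | ⟨-, h⟩
  · left
    rw [cen_comm (ne_one_of_not_isUni hx) h (mem_cen_self x), mul_inv_cancel_right]
  · exact Or.inr (h x (mem_cen_self x))

omit [Fintype F] in
theorem isUni_invol_iff {x : P2} (hx : x ≠ 1) (hx2 : x * x = 1) : IsUni x ↔ (2 : F) = 0 := by
  obtain ⟨X, rfl⟩ := proj_surjective x
  rw [isUni_proj, trace_zero_of_sq hx hx2]
  constructor
  · intro h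
    exact mul_self_eq_zero.mp (show (2 : F) * 2 = 0 by linear_combination -h)
  · intro h
    linear_combination (-2 : F) * h

theorem eq_one_of_invol_two {x : P2} (h2 : (2 : F) = 0) (hx : IsUni x) : x * x = 1 := by
  have : CharP F 2 := CharTwo.of_one_ne_zero_of_two_eq_zero one_ne_zero h2
  rw [← sq]
  exact pow_char_eq_one_of_isUni 2 hx

section Action

variable {Ω : Type*} [MulAction (Matrix.ProjectiveSpecialLinearGroup (Fin 2) F) Ω] [Finite Ω]

omit [Finite Ω] in
theorem pw_le_borel (h4 : 4 ≤ Fintype.card F) (hne : ∀ ω : Ω, stabilizer P2 ω ≠ ⊤) {u : P2}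
    (hu : u ∈ cen (stdUni : P2)) (hfix : ∃ ω : Ω, u • ω = ω) : pw Ω u ≤ borel F := by
  intro w hw
  by_contra hwb
  have hU : cen (stdUni : P2) ≤ Subgroup.normalizer (pw Ω u : Set P2) := fun v hv =>
    mem_normalizer_pw (Or.inl (by rw [cen_comm stdUni_ne_one hv hu, mul_inv_cancel_right]))
  have hN := eq_top_of_uni hU (Subgroup.le_normalizer hw) hwb
  have := isSimple_P2 (F := F) h4
  rcases (Subgroup.normalizer_eq_top_iff.mp hN).eq_bot_or_eq_top with h | h
  · rw [h, Subgroup.mem_bot] at hw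
    exact hwb (hw ▸ (borel F).one_mem)
  · obtain ⟨ω, hω⟩ := hfix
    exact hne ω (top_le_iff.mp (h ▸ pw_le_stabilizer hω))

omit [Finite Ω] in
theorem stabilizer_le_borel (hne : ∀ ω : Ω, stabilizer P2 ω ≠ ⊤) {ω : Ω}
    (hU : cen (stdUni : P2) ≤ stabilizer P2 ω) : stabilizer P2 ω ≤ borel F := fun w hw => by
  by_contra hwb
  exact hne ω (eq_top_of_uni hU hw hwb)

/-- Stabilisers containing a full unipotent group and a semisimple element. -/
theorem not_binary_borel (hne : ∀ ω : Ω, stabilizer P2 ω ≠ ⊤) {ω : Ω}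
    (hU : cen (stdUni : P2) ≤ stabilizer P2 ω) {r : P2} (hr : r ∈ stabilizer P2 ω) (hru : ¬ IsUni r) :
    ¬ IsBinaryAct P2 Ω := by
  have hKB := stabilizer_le_borel hne hU
  obtain ⟨R, rfl⟩ := proj_surjective r
  have h10 := mem_borel_proj.mp (hKB hr)
  have hd := SL_det_two R
  rw [h10, mul_zero, sub_zero] at hd
  have hne' : (R : M2) 0 0 - (R : M2) 1 1 ≠ 0 := fun e => hru (isUni_proj.mpr (by
    rw [Matrix.trace_fin_two]
    linear_combination 4 * hd + ((R : M2) 0 0 - (R : M2) 1 1) * e))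
  obtain ⟨z, hz⟩ : ∃ z, z = (R : M2) 0 1 / ((R : M2) 0 0 - (R : M2) 1 1) := ⟨_, rfl⟩
  obtain ⟨D, hD⟩ : ∃ D, D = upSL z * R * (upSL z)⁻¹ := ⟨_, rfl⟩
  obtain ⟨j00, j11, j01, j10⟩ := SL_inv_entries (upSL z : S2)
  have hD10 : (D : M2) 1 0 = 0 := by
    rw [hD]; simp [SL_mul_entries, j00, j11, j01, j10, upSL_coe, h10]
  have hD01 : (D : M2) 0 1 = 0 := by
    rw [hD]; simp [SL_mul_entries, j00, j11, j01, j10, upSL_coe, h10, hz]; field_simp; ring
  have hDu : ¬ IsUni (proj D) := by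
    rw [hD, map_mul, map_mul, map_inv, isUni_conj]; exact hru
  have hDK : proj D ∈ stabilizer P2 ω := by
    rw [hD, map_mul, map_mul, map_inv]
    have hu := hU (proj_upSL_mem_cen z)
    exact (stabilizer P2 ω).mul_mem ((stabilizer P2 ω).mul_mem hu hr) ((stabilizer P2 ω).inv_mem hu)
  obtain ⟨W, hW⟩ : ∃ W : S2, W = mk2 0 1 (-1) 0 (by ring) := ⟨_, rfl⟩
  obtain ⟨d00, d11, d01, d10⟩ := SL_inv_entries D
  have hinv : proj D * proj W = proj W * (proj D)⁻¹ := by
    rw [← map_inv, ← map_mul, ← map_mul]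
    congr 1
    apply SL_ext_two <;> simp [hW, SL_mul_entries, d00, d11, d01, d10, hD10, hD01]
  have hfix' : proj D • (proj W • ω) = proj W • ω := by
    rw [← mul_smul, hinv, mul_smul, mem_stabilizer_iff.mp ((stabilizer P2 ω).inv_mem hDK)]
  refine not_binary_of_semisimple hDu ⟨ω, hDK⟩ (fun k hk => ?_) (fun X hX h2 ht => ?_)
  · have hk1 := hKB (pw_le_stabilizer (mem_stabilizer_iff.mp hDK) hk)
    have hk2 : (proj W)⁻¹ * k * proj W ∈ borel F := hKB (by
      rw [mem_stabilizer_iff, mul_smul, mul_smul, mem_pw.mp hk _ hfix', inv_smul_smul])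
    obtain ⟨K, rfl⟩ := proj_surjective k
    have e10 := mem_borel_proj.mp hk1
    rw [← map_inv, ← map_mul, ← map_mul, mem_borel_proj] at hk2
    obtain ⟨w00, w11, w01, w10⟩ := SL_inv_entries W
    simp [SL_mul_entries, w00, w11, w01, w10, hW] at hk2
    rw [mem_cen_proj, Subgroup.mem_centralizer_singleton_iff]
    apply SL_ext_two <;> simp [SL_mul_entries, hD10, hD01, e10, hk2, mul_comm]
  · refine ⟨(X : M2) 0 0, ?_⟩
    have hX10 : (X : M2) 1 0 = 0 := by
      rcases proj_eq_iff.mp hX.symm with e | e <;> simp [e, hD10]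
    have hdX := SL_det_two X
    rw [hX10, mul_zero, sub_zero] at hdX
    rw [Matrix.trace_fin_two] at ht
    linear_combination -hdX + (X : M2) 0 0 * ht + (X : M2) 0 0 * h2

/-- A point stabiliser with a unipotent element. -/
theorem unipotent_case (h4 : 4 ≤ Fintype.card F) (hne : ∀ ω : Ω, stabilizer P2 ω ≠ ⊤) {u : P2}
    (hu : u ∈ cen (stdUni : P2)) (hu1 : u ≠ 1) (hfix : ∃ ω : Ω, u • ω = ω) :
    ¬ IsBinaryAct P2 Ω ∨ ((2 : F) = 0 ∧ ∃ ω : Ω, stabilizer P2 ω = cen (stdUni : P2)) := by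
  have hWB := pw_le_borel h4 hne hu hfix
  have hcu : cen u = cen (stdUni : P2) := cen_eq_of_mem stdUni_ne_one hu1 hu
  obtain ⟨ω, hω⟩ := hfix
  have hN : ∀ v ∈ cen (stdUni : P2), ∀ k ∈ pw Ω u, v * k * v⁻¹ ∈ pw Ω u := fun v hv k hk =>
    conj_mem_pw (Or.inl (by rw [cen_comm stdUni_ne_one hv hu, mul_inv_cancel_right])) hk
  by_cases hWU : pw Ω u ≤ cen (stdUni : P2)
  · by_cases h2 : (2 : F) = 0
    · by_cases hUW : cen (stdUni : P2) ≤ pw Ω u
      · have hUK := hUW.trans (pw_le_stabilizer hω)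
        by_cases hKU : stabilizer P2 ω ≤ cen (stdUni : P2)
        · exact Or.inr ⟨h2, ω, le_antisymm hKU hUK⟩
        · obtain ⟨r, hr, hrU⟩ := SetLike.not_le_iff_exists.mp hKU
          exact Or.inl (not_binary_borel hne hUK hr fun h => hrU
            (mem_cen_stdUni_of_isUni (stabilizer_le_borel hne hUK hr) h))
      · obtain ⟨v, hv, hvW⟩ := SetLike.not_le_iff_exists.mp hUW
        refine Or.inl (not_binary_of_invol (u := v) isConj_invol hu1
          (eq_one_of_invol_two h2 (isUni_of_mem_cen_stdUni hu))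
          (eq_one_of_invol_two h2 (isUni_of_mem_cen_stdUni hv))
          (cen_comm stdUni_ne_one hu hv) ⟨ω, hω⟩ (fun k hk => ?_) hvW)
        exact eq_one_of_invol_two h2 (isUni_of_mem_cen_stdUni (hWU hk))
    · left
      obtain ⟨b, rfl⟩ := exists_upSL_of_mem_cen hu
      refine not_binary_of_upSL (fun e => hu1 ?_) h2 ⟨ω, hω⟩ (hcu ▸ hWU)
      rw [e]
      exact proj_eq_one_iff.mpr (by simp [IsScalarTwo, upSL_coe])
  · obtain ⟨r, hr, hrU⟩ := SetLike.not_le_iff_exists.mp hWU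
    have hUW := uni_le_of_mem hN hr (hWB hr) hrU
    exact Or.inl (not_binary_borel hne (hUW.trans (pw_le_stabilizer hω)) (pw_le_stabilizer hω hr)
      fun h => hrU (mem_cen_stdUni_of_isUni (hWB hr) h))

/-- An involution of semisimple type with pointwise stabiliser of exponent two. -/
theorem not_binary_of_expTwo {w : P2} (hw : ¬ IsUni w) (hw2 : w * w = 1) (h3 : 3 ≤ Nat.card (cen w))
    (hfix : ∃ ω : Ω, w • ω = ω) (hexp : ∀ k ∈ pw Ω w, k * k = 1) : ¬ IsBinaryAct P2 Ω := by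
  have hw1 := ne_one_of_not_isUni hw
  obtain ⟨v, -, -, hv2, hinv⟩ := exists_torus_inverter hw
  obtain ⟨t, ht, hvt⟩ : ∃ t ∈ cen w, v * t ∉ pw Ω w := by
    by_contra! hall
    obtain ⟨t, ht, ht2⟩ := exists_sq_ne_one h3 hw
    refine ht2 (hexp t ?_)
    have h := mul_mem (inv_mem (hall 1 (one_mem _))) (hall t ht)
    simpa using h
  have ht' : t * w * t⁻¹ = w := by rw [cen_comm hw1 ht (mem_cen_self w), mul_inv_cancel_right]
  have hwinv : w⁻¹ = w := inv_eq_of_mul_eq_one_right hw2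
  have hvinv : v⁻¹ = v := inv_eq_of_mul_eq_one_right hv2
  refine not_binary_of_invol (u := v * t) isConj_invol hw1 hw2 ?_ ?_ hfix hexp hvt
  · have := hinv t ht
    rw [hvinv] at this
    calc v * t * (v * t) = v * t * v * t := by group
      _ = 1 := by rw [this, inv_mul_cancel]
  · have h1 := hinv w (mem_cen_self w)
    rw [hwinv] at h1
    calc w * (v * t) = v * w * v⁻¹ * (v * t) := by rw [h1]
      _ = v * (w * t) := by group
      _ = v * t * w := by rw [cen_comm hw1 (mem_cen_self w) ht, mul_assoc]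

/-- A semisimple element with pointwise stabiliser inside its torus normaliser, when no point
stabiliser contains a unipotent element. -/
theorem not_binary_torus (h4 : 4 ≤ Fintype.card F) (h5 : Fintype.card F ≠ 5)
    (hnu : ∀ (k : P2) (ω : Ω), k • ω = ω → IsUni k → k = 1) {x : P2} (hx : ¬ IsUni x)
    (hfix : ∃ ω : Ω, x • ω = ω) (hW : pw Ω x ≤ Subgroup.normalizer (cen x : Set P2))
    (hexc : ∀ X : S2, proj X = x → (2 : F) = 0 → (X : M2).trace = 1 → ∃ c : F, c ^ 2 + c + 1 = 0) :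
    ¬ IsBinaryAct P2 Ω := by
  by_cases hWc : pw Ω x ≤ cen x
  · exact not_binary_of_semisimple hx hfix hWc hexc
  obtain ⟨w, hw, hwc⟩ := SetLike.not_le_iff_exists.mp hWc
  obtain ⟨hw2, hinvx⟩ := (normalizer_cases hx (Subgroup.mem_normalizer_iff.mp (hW hw))).resolve_left hwc
  obtain ⟨ω, hω⟩ := hfix
  have hwω : w • ω = ω := mem_stabilizer_iff.mp (pw_le_stabilizer hω hw)
  have hw1 : w ≠ 1 := fun e => hwc (e ▸ (cen x).one_mem)
  have hwu : ¬ IsUni w := fun h => hw1 (hnu w ω hwω h)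
  have hx1 := ne_one_of_not_isUni hx
  refine not_binary_of_expTwo hwu hw2 (three_le_card_cen h4 h5 hwu) ⟨ω, hwω⟩ (fun k hk => ?_)
  by_contra hk2
  have key : ∀ j ∈ pw Ω w, j * j ≠ 1 → j ≠ 1 ∧ cen j = cen x := by
    intro j hj hj2
    have hj1 : j ≠ 1 := fun e => hj2 (by rw [e, one_mul])
    rcases normalizer_cases hx (Subgroup.mem_normalizer_iff.mp (hW (pw_le_of_mem hw hj))) with h | h
    · exact ⟨hj1, cen_eq_of_mem hx1 hj1 h⟩
    · exact absurd h.1 hj2
  obtain ⟨t, ht, ht2⟩ := exists_sq_ne_one (three_le_card_cen h4 h5 hwu) hwu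
  have hk' := conj_mem_pw (g := t) (Or.inl (by rw [cen_comm (ne_one_of_not_isUni hwu) ht (mem_cen_self w),
    mul_inv_cancel_right])) hk
  obtain ⟨-, ck⟩ := key k hk hk2
  obtain ⟨-, ck'⟩ := key _ hk' (fun e => hk2 (by
    have : t * (k * k) * t⁻¹ = 1 := by rw [← e]; group
    rwa [conj_eq_one_iff] at this))
  have htx : ∀ y, y ∈ cen x ↔ t * y * t⁻¹ ∈ cen x := fun y => by
    have h := mem_cen_conj t k y
    rw [ck', ck] at h
    exact h.symm
  have h1 := (normalizer_cases hx htx).resolve_right (fun h => ht2 h.1)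
  have ht1 : t ≠ 1 := fun e => ht2 (by rw [e, one_mul])
  exact hwc (by rw [← cen_eq_of_mem hx1 ht1 h1, cen_eq_of_mem (ne_one_of_not_isUni hwu) ht1 ht]
                exact mem_cen_self w)

omit [Finite Ω] in
/-- Maximal torus normalisers contain the pointwise stabilisers. -/
theorem pw_le_normalizer (h4 : 4 ≤ Fintype.card F) (hne : ∀ ω : Ω, stabilizer P2 ω ≠ ⊤) {x : P2}
    (hx : ¬ IsUni x) (hfix : ∃ ω : Ω, x • ω = ω) (hco : IsCoatom (Subgroup.normalizer (cen x : Set P2))) :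
    pw Ω x ≤ Subgroup.normalizer (cen x : Set P2) := by
  have hle : Subgroup.normalizer (cen x : Set P2) ≤ Subgroup.normalizer (pw Ω x : Set P2) := fun g hg =>
    mem_normalizer_pw (conj_eq_or_inv hx hg)
  rcases hle.eq_or_lt with h | h
  · rw [h]; exact Subgroup.le_normalizer
  exfalso
  have := isSimple_P2 (F := F) h4
  rcases (Subgroup.normalizer_eq_top_iff.mp (hco.2 _ h)).eq_bot_or_eq_top with h' | h'
  · have := self_mem_pw (Ω := Ω) x
    rw [h', Subgroup.mem_bot] at this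
    exact ne_one_of_not_isUni hx this
  · obtain ⟨ω, hω⟩ := hfix
    exact hne ω (top_le_iff.mp (h' ▸ pw_le_stabilizer hω))

end Action

end Cfsg.Agent.H33.Binary
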