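import Cfsg.Agent.H33.Binary.PSLSeven

/-!
The binary actions of PSL_2 on cosets of proper subgroups.
-/

set_option autoImplicit false

namespace Cfsg.Agent.H33.Binary

open Matrix Cfsg.Agent.Linear Cfsg.Agent.Linear.Dickson MulAction

variable {F : Type*} [Field F] [Fintype F]

local notation "M2" => Matrix (Fin 2) (Fin 2) F
local notation "S2" => Matrix.SpecialLinearGroup (Fin 2) F
local notation "P2" => Matrix.ProjectiveSpecialLinearGroup (Fin 2) F

/-- A finite cyclic group has one subgroup of each order. -/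
theorem eq_of_card_eq_cyclic {A : Type*} [Group A] [Finite A] [IsCyclic A] (H K : Subgroup A)
    (h : Nat.card H = Nat.card K) : H = K := by
  classical
  have := Fintype.ofFinite A
  have hmem : ∀ (L : Subgroup A), Nat.card L = Nat.card H →
      (Finset.univ.filter fun x : A => x ∈ L) =
        (Finset.univ.filter fun x : A => x ^ Nat.card H = 1) := by
    intro L hL
    refine Finset.eq_of_subset_of_card_le (fun x hx => ?_) ?_
    · simp only [Finset.mem_filter, Finset.mem_univ, true_and] at hx ⊢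
      rw [← hL]
      exact orderOf_dvd_iff_pow_eq_one.mp (L.orderOf_dvd_natCard hx)
    · refine (IsCyclic.card_pow_eq_one_le Nat.card_pos).trans (le_of_eq ?_)
      rw [← hL, Nat.card_eq_fintype_card, Fintype.card_subtype]
  have h1 := (hmem H rfl).trans (hmem K h.symm).symm
  ext x
  simpa using Finset.ext_iff.mp h1 x

omit [Fintype F] in
theorem mem_cen_of_commute_two (h2 : (2 : F) = 0) {x y : P2} (h : y * x = x * y) : y ∈ cen x := by
  obtain ⟨X, rfl⟩ := proj_surjective x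
  obtain ⟨Y, rfl⟩ := proj_surjective y
  have hneg : ∀ Z : S2, -Z = Z := fun Z => by
    have key : ∀ a : F, -a = a := fun a => by linear_combination (-a) * h2
    apply SL_ext_two <;> simp [key]
  rw [← map_mul, ← map_mul, proj_eq_iff, hneg] at h
  rw [mem_cen_proj, Subgroup.mem_centralizer_singleton_iff]
  exact (h.elim id id).symm

omit [Fintype F] in
theorem proj_eq_two (h2 : (2 : F) = 0) {X Y : S2} (h : proj X = proj Y) : X = Y := by
  have hneg : ∀ Z : S2, -Z = Z := fun Z => by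
    have key : ∀ a : F, -a = a := fun a => by linear_combination (-a) * h2
    apply SL_ext_two <;> simp [key]
  rw [proj_eq_iff, hneg] at h
  exact (h.elim id id).symm

omit [Fintype F] in
theorem eq_of_traces (h2 : (2 : F) = 0) (hroot : ∀ c : F, c ^ 2 + c + 1 ≠ 0) {Y : S2}
    (hY : (Y : M2).trace = 1) (hXY : ((compSL 1 * Y : S2) : M2).trace = 1) : Y = compSL 1 := by
  have hd := SL_det_two Y
  rw [Matrix.trace_fin_two] at hY
  rw [Matrix.SpecialLinearGroup.coe_mul, Matrix.trace_fin_two, mul_two_apply, mul_two_apply] at hXY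
  simp [compSL_coe] at hXY
  have hq : (Y : M2) 0 0 ^ 2 + (Y : M2) 0 0 * ((Y : M2) 1 0 + 1) + ((Y : M2) 1 0 + 1) ^ 2 = 0 := by
    linear_combination hd - (Y : M2) 0 0 * hY + (Y : M2) 1 0 * hXY - (Y : M2) 1 0 * hY +
      ((Y : M2) 0 0 ^ 2 + (Y : M2) 1 0 ^ 2 + 1 + (Y : M2) 1 0 + (Y : M2) 0 0 * (Y : M2) 1 0) * h2
  have hc : (Y : M2) 1 0 + 1 = 0 := by
    by_contra hc
    refine hroot ((Y : M2) 0 0 / ((Y : M2) 1 0 + 1)) ?_
    field_simp
    linear_combination hq
  have ha : (Y : M2) 0 0 = 0 := by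
    rw [hc] at hq
    simpa using hq
  apply SL_ext_two <;> simp [compSL_coe]
  · exact ha
  · linear_combination hXY - hY + hc + ha
  · linear_combination hc - h2
  · linear_combination hY - ha

omit [Fintype F] in
theorem trace_one_of_cube (h2 : (2 : F) = 0) {X : S2} (h3 : proj X ^ 3 = 1) (h1 : proj X ≠ 1) :
    (X : M2).trace = 1 := by
  rw [← map_pow] at h3
  have hX : X ^ 3 = 1 := proj_eq_two h2 (by rw [h3, map_one])
  have e : (X : M2) * ((X : M2) * (X : M2)) = 1 := by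
    have := congrArg (fun Z : S2 => (Z : M2)) hX
    simpa [pow_succ, mul_assoc] using this
  rw [SL_sq_eq, mul_sub, Matrix.mul_smul, SL_sq_eq, mul_one] at e
  have hns : ¬ IsScalarTwo (X : M2) := fun h => h1 (proj_eq_one_iff.mpr h)
  have h : (X : M2).trace ^ 2 - 1 = 0 := by
    by_contra hne
    refine hns (isScalarTwo_iff.mpr ⟨(1 + (X : M2).trace) / ((X : M2).trace ^ 2 - 1), ?_⟩)
    have e' : ((X : M2).trace ^ 2 - 1) • (X : M2) = (1 + (X : M2).trace) • (1 : M2) := by
      rw [sub_smul, add_smul, one_smul, one_smul]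
      conv_rhs => arg 1; rw [← e]
      rw [smul_sub, smul_smul, sq]
      abel
    rw [div_eq_inv_mul, ← smul_smul, ← e', smul_smul, inv_mul_cancel₀ hne, one_smul]
  have : ((X : M2).trace - 1) ^ 2 = 0 := by linear_combination h + (1 - (X : M2).trace) * h2
  exact sub_eq_zero.mp (eq_zero_of_pow_eq_zero this)

omit [Fintype F] in
theorem cube_of_trace_one (h2 : (2 : F) = 0) {X : S2} (ht : (X : M2).trace = 1) : proj X ^ 3 = 1 := by
  rw [← map_pow]
  have e : X ^ 3 = -1 := by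
    refine Subtype.ext ?_
    rw [Matrix.SpecialLinearGroup.coe_pow, pow_succ, pow_two, SL_sq_eq, ht, one_smul, sub_mul, one_mul,
      SL_sq_eq, ht, one_smul, Matrix.SpecialLinearGroup.coe_neg, Matrix.SpecialLinearGroup.coe_one]
    abel
  rw [e, proj_neg, map_one]

theorem commute_of_traces (h2 : (2 : F) = 0) (hroot : ∀ c : F, c ^ 2 + c + 1 ≠ 0) {X Y : S2}
    (hX : (X : M2).trace = 1) (hY : (Y : M2).trace = 1) (hXY : ((X * Y : S2) : M2).trace = 1) : Y = X := by
  have ht : (X : M2).trace ^ 2 ≠ 4 := by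
    rw [hX]
    intro e
    exact one_ne_zero (show (1 : F) = 0 by linear_combination e + 2 * h2)
  obtain ⟨g, hg⟩ := isConj_iff.mp (isConj_of_trace_eq (not_isScalarTwo_of_trace ht)
    (not_isScalarTwo_compSL 1) (by rw [hX, trace_compSL]) (Or.inr ht))
  have := eq_of_traces h2 hroot (Y := g * Y * g⁻¹) (by rw [Linear.trace_conj, hY]) (by
    rw [← hg, show g * X * g⁻¹ * (g * Y * g⁻¹) = g * (X * Y) * g⁻¹ by group, Linear.trace_conj, hXY])
  rw [← hg] at this
  exact mul_left_cancel (mul_right_cancel this)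

theorem root_iff {a : ℕ} (ha : Fintype.card F = 2 ^ a) : (∀ c : F, c ^ 2 + c + 1 ≠ 0) ↔ Odd a := by
  have h2 : (2 : F) = 0 := by
    have h := Nat.cast_card_eq_zero F
    rw [ha, Nat.cast_pow] at h
    exact_mod_cast eq_zero_of_pow_eq_zero h
  have hmod : ∀ b : ℕ, 2 ^ b % 3 = if Even b then 1 else 2 := by
    intro b
    induction b with
    | zero => simp
    | succ b ih =>
      rw [pow_succ, Nat.mul_mod, ih]
      by_cases hb : Even b <;> simp [hb, Nat.even_add_one]
  have hcard : Nat.card Fˣ = 2 ^ a - 1 := by rw [Nat.card_units, Nat.card_eq_fintype_card, ha]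
  constructor
  · intro h
    by_contra hodd
    rw [Nat.not_odd_iff_even] at hodd
    have := hmod a
    rw [if_pos hodd] at this
    have h3 : 3 ∣ Nat.card Fˣ := by rw [hcard]; omega
    have : Fact (Nat.Prime 3) := ⟨Nat.prime_three⟩
    obtain ⟨u, hu⟩ := exists_prime_orderOf_dvd_card' 3 h3
    refine h u ?_
    have hu3 : (u : F) ^ 3 = 1 := by
      rw [← Units.val_pow_eq_pow_val, ← hu, pow_orderOf_eq_one, Units.val_one]
    have hu1 : (u : F) - 1 ≠ 0 := fun e => by
      rw [show u = 1 from Units.ext (by rw [Units.val_one]; exact sub_eq_zero.mp e), orderOf_one] at hu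
      norm_num at hu
    apply mul_left_cancel₀ hu1
    linear_combination hu3
  · intro hodd c hc
    have hc0 : c ≠ 0 := fun e => by simp [e] at hc
    have hc1 : c ≠ 1 := fun e => by
      subst e
      exact one_ne_zero (show (1 : F) = 0 by linear_combination hc - h2)
    have hu3 : orderOf (Units.mk0 c hc0) = 3 := by
      refine orderOf_eq_prime (hp := ⟨Nat.prime_three⟩) (Units.ext ?_) (fun e => hc1 (congrArg Units.val e))
      rw [Units.val_pow_eq_pow_val, Units.val_mk0, Units.val_one]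
      linear_combination (c - 1) * hc
    have h3 := hu3 ▸ orderOf_dvd_natCard (Units.mk0 c hc0)
    rw [hcard] at h3
    have := hmod a
    rw [if_neg (Nat.not_even_iff_odd.mpr hodd)] at this
    omega

section Forward

variable {H : Subgroup (Matrix.ProjectiveSpecialLinearGroup (Fin 2) F)}

local notation "Om" => (P2 ⧸ H)

theorem stab_one : stabilizer P2 ((1 : P2) : Om) = H := MulAction.stabilizer_quotient H

omit [Fintype F] in
theorem stab_ne_top (hH : H ≠ ⊤) (ω : Om) : stabilizer P2 ω ≠ ⊤ := by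
  obtain ⟨g, rfl⟩ := exists_smul_eq P2 (((1 : P2) : P2 ⧸ H)) ω
  intro e
  refine hH ((Subgroup.eq_top_iff' H).mpr fun z => ?_)
  have h1 : g * z * g⁻¹ ∈ stabilizer P2 (g • ((1 : P2) : P2 ⧸ H)) := e ▸ Subgroup.mem_top _
  rw [mem_stabilizer_iff, mul_smul, mul_smul, inv_smul_smul] at h1
  have h2 := MulAction.injective g h1
  rw [← mem_stabilizer_iff, MulAction.stabilizer_quotient] at h2
  exact h2

theorem exists_fixed_of_mem {x : P2} (hx : x ∈ H) : ∃ ω : Om, x • ω = ω :=
  ⟨((1 : P2) : P2 ⧸ H), mem_stabilizer_iff.mp (by rw [stab_one]; exact hx)⟩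

theorem pw_le_of_mem_H {x : P2} (hx : x ∈ H) : pw Om x ≤ H :=
  (pw_le_stabilizer (mem_stabilizer_iff.mp (show x ∈ stabilizer P2 ((1 : P2) : Om) by rw [stab_one]; exact hx))).trans
    stab_one.le

/-- Stabilisers without unipotent elements, odd characteristic. -/
theorem not_binary_odd (h4 : 4 ≤ Fintype.card F) (h5 : Fintype.card F ≠ 5) (h2 : (2 : F) ≠ 0)
    (hH : H ≠ ⊤) (hne : H ≠ ⊥) (hnu : ∀ k ∈ H, IsUni k → k = 1) : ¬ IsBinaryAct P2 Om := by
  have hexc : ∀ x : P2, ∀ X : S2, proj X = x → (2 : F) = 0 → (X : M2).trace = 1 →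
      ∃ c : F, c ^ 2 + c + 1 = 0 := fun _ _ _ e _ => absurd e h2
  have hnu' : ∀ (k : P2) (ω : Om), k • ω = ω → IsUni k → k = 1 := by
    intro k ω hk hu
    obtain ⟨g, rfl⟩ := exists_smul_eq P2 (((1 : P2) : Om)) ω
    have h1 : g⁻¹ * k * g ∈ H := by
      rw [← stab_one (H := H), mem_stabilizer_iff, mul_smul, mul_smul, hk, inv_smul_smul]
    have h2' := hnu _ h1 (by
      have h' := (isUni_conj g⁻¹).mpr hu
      rwa [inv_inv] at h')
    calc k = g * (g⁻¹ * k * g) * g⁻¹ := by group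
      _ = 1 := by rw [h2']; group
  have hsemi : ∀ x ∈ H, x ≠ 1 → ¬ IsUni x := fun x hx hx1 hu => hx1 (hnu x hx hu)
  have hfin : ∀ x ∈ H, x ≠ 1 → pw Om x ≤ Subgroup.normalizer (cen x : Set P2) → ¬ IsBinaryAct P2 Om :=
    fun x hx hx1 hW => not_binary_torus h4 h5 hnu' (hsemi x hx hx1) (exists_fixed_of_mem hx) hW (hexc x)
  have hco : ∀ x ∈ H, x ≠ 1 → IsCoatom (Subgroup.normalizer (cen x : Set P2)) → ¬ IsBinaryAct P2 Om :=
    fun x hx hx1 h => hfin x hx hx1 (pw_le_normalizer h4 (stab_ne_top hH) (hsemi x hx hx1) (exists_fixed_of_mem hx) h)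
  by_cases hbig : Fintype.card F ≠ 7 ∧ Fintype.card F ≠ 9 ∧ Fintype.card F ≠ 11
  · obtain ⟨⟨x, hx⟩, hne'⟩ := Subgroup.ne_bot_iff_exists_ne_one.mp hne
    have hx1 : x ≠ 1 := fun e => hne' (Subtype.ext e)
    exact hco x hx hx1 (isCoatom_torus (hsemi x hx hx1) (three_le_card_cen h4 h5 (hsemi x hx hx1)) (by omega)
      hbig.1 hbig.2.1 (fun _ => hbig.2.2))
  by_cases hexp : ∀ k ∈ H, k * k = 1
  · obtain ⟨⟨x, hx⟩, hne'⟩ := Subgroup.ne_bot_iff_exists_ne_one.mp hne
    have hx1 : x ≠ 1 := fun e => hne' (Subtype.ext e)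
    exact not_binary_of_expTwo (hsemi x hx hx1) (hexp x hx) (three_le_card_cen h4 h5 (hsemi x hx hx1))
      (exists_fixed_of_mem hx) (fun k hk => hexp k (pw_le_of_mem_H hx hk))
  push Not at hexp
  obtain ⟨x, hx, hx2⟩ := hexp
  have hx1 : x ≠ 1 := fun e => hx2 (by rw [e, one_mul])
  have hxs := hsemi x hx hx1
  obtain ⟨p, hchar⟩ := CharP.exists F
  have : Fact p.Prime := ⟨CharP.char_is_prime F p⟩
  have hthree : 3 ∣ Nat.card H → Fintype.card F = 7 ∧ ¬ 5 ∣ Nat.card H ∨ ¬ IsBinaryAct P2 Om := by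
    intro h3
    have : Fact (Nat.Prime 3) := ⟨Nat.prime_three⟩
    obtain ⟨z, hz⟩ := exists_prime_orderOf_dvd_card' 3 h3
    rw [← Subgroup.orderOf_coe] at hz
    have hz1 : (z : P2) ≠ 1 := fun e => by rw [e, orderOf_one] at hz; norm_num at hz
    have hzs := hsemi z z.2 hz1
    have h3c : 3 ∣ Nat.card (cen (z : P2)) := hz ▸ Subgroup.orderOf_dvd_natCard _ (mem_cen_self _)
    have hcases := card_cen_cases hzs
    obtain ⟨f, -, hf⟩ := FiniteField.card F p
    rcases (show Fintype.card F = 7 ∨ Fintype.card F = 9 ∨ Fintype.card F = 11 by omega) with e | e | e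
    · left
      refine ⟨e, fun h5' => ?_⟩
      have h' := h5'.trans H.card_subgroup_dvd_card
      rw [card_P2_seven e] at h'
      norm_num at h'
    · exfalso
      have hp3 : p = 3 := by
        have : p ∣ 3 ^ 2 := by rw [show (3 : ℕ) ^ 2 = 9 from rfl, ← e, hf]; exact dvd_pow_self p f.ne_zero
        exact (Nat.prime_dvd_prime_iff_eq Fact.out Nat.prime_three).mp ((Fact.out : p.Prime).dvd_of_dvd_pow this)
      exact coprime_card_cen p hzs (hp3 ▸ h3c)
    · right
      rw [e] at hcases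
      norm_num at hcases
      refine hco z z.2 hz1 (isCoatom_torus hzs (three_le_card_cen h4 h5 hzs) (by omega) (by omega) (by omega) ?_)
      intro hk
      rw [e] at hk
      norm_num at hk
      omega
  rcases shape p H with ⟨g, hg⟩ | ⟨b, hb, hle⟩ | h | h | h | ⟨K, iK, iK', ι, g, w, hK⟩
  · -- Borel subgroups: abelian
    obtain ⟨χ, hχ⟩ := exists_diagonal_hom (F := F)
    refine hfin x hx hx1 ((pw_le_of_mem_H hx).trans fun k hk => Subgroup.le_normalizer ?_)
    refine mem_cen_of_commute hxs hx2 ?_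
    have hm : g * (k * x * k⁻¹ * x⁻¹) * g⁻¹ ∈ cen (stdUni : P2) := by
      refine (hχ ⟨_, hg _ (H.mul_mem (H.mul_mem (H.mul_mem hk hx) (H.inv_mem hk)) (H.inv_mem hx))⟩).mp ?_
      have e : (⟨_, hg _ (H.mul_mem (H.mul_mem (H.mul_mem hk hx) (H.inv_mem hk)) (H.inv_mem hx))⟩ : borel F) =
          ⟨_, hg _ hk⟩ * ⟨_, hg _ hx⟩ * (⟨_, hg _ hk⟩ : borel F)⁻¹ * (⟨_, hg _ hx⟩ : borel F)⁻¹ := by
        refine Subtype.ext ?_
        show g * (k * x * k⁻¹ * x⁻¹) * g⁻¹ =
          g * k * g⁻¹ * (g * x * g⁻¹) * (g * k * g⁻¹)⁻¹ * (g * x * g⁻¹)⁻¹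
        group
      rw [e, map_mul, map_mul, map_mul, map_inv, map_inv, mul_comm (χ _) (χ _), mul_inv_cancel_right,
        mul_inv_cancel]
    have h1 := hnu _ (H.mul_mem (H.mul_mem (H.mul_mem hk hx) (H.inv_mem hk)) (H.inv_mem hx))
      ((isUni_conj g).mp (isUni_of_mem_cen_stdUni hm))
    calc k * x = k * x * k⁻¹ * x⁻¹ * (x * k) := by group
      _ = x * k := by rw [h1, one_mul]
  · -- torus normalisers
    refine hfin x hx hx1 ((pw_le_of_mem_H hx).trans (hle.trans ?_))
    have hxb := (normalizer_cases hb (Subgroup.mem_normalizer_iff.mp (hle hx))).resolve_right fun h => hx2 h.1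
    rw [cen_eq_of_mem (ne_one_of_not_isUni hb) hx1 hxb]
  · obtain ⟨f⟩ := h
    rcases hthree (by rw [Nat.card_congr f.toEquiv, card_alt_four]; norm_num) with ⟨e, -⟩ | h'
    · exact not_binary_altFour e ((1 : P2) : Om) ((MulEquiv.subgroupCongr stab_one).trans f)
    · exact h'
  · obtain ⟨f⟩ := h
    rcases hthree (by rw [Nat.card_congr f.toEquiv, card_sym_four]; norm_num) with ⟨e, -⟩ | h'
    · exact not_binary_symFour e ((1 : P2) : Om) ((MulEquiv.subgroupCongr stab_one).trans f)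
    · exact h'
  · obtain ⟨f⟩ := h
    rcases hthree (by rw [Nat.card_congr f.toEquiv, card_alt_five]; norm_num) with ⟨-, e⟩ | h'
    · exact absurd (by rw [Nat.card_congr f.toEquiv, card_alt_five]; norm_num) e
    · exact h'
  · exfalso
    have hmem : g * proj (upSL (w : F)) * g⁻¹ ∈ H := by
      rcases hK with rfl | ⟨lam, ν, -, -, rfl⟩
      · exact ⟨_, (proj_upSL_mem_pslSub ι w).1, rfl⟩
      · exact ⟨_, pslSub_le_pglSub ι w lam (proj_upSL_mem_pslSub ι w).1, rfl⟩
    have h1 := hnu _ hmem ((isUni_conj g).mpr (isUni_upSL _))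
    rw [conj_eq_one_iff, proj_eq_one_iff] at h1
    exact not_isScalarTwo_upSL w.ne_zero h1

/-- Stabilisers without unipotent elements, characteristic two. -/
theorem card_three_of_even (h4 : 4 ≤ Fintype.card F) (h2 : (2 : F) = 0) (hH : H ≠ ⊤) (hne : H ≠ ⊥)
    (hnu : ∀ k ∈ H, IsUni k → k = 1) (hbin : IsBinaryAct P2 Om) :
    (∀ c : F, c ^ 2 + c + 1 ≠ 0) ∧ Nat.card H = 3 := by
  have h5 : Fintype.card F ≠ 5 ∧ Fintype.card F ≠ 7 ∧ Fintype.card F ≠ 9 ∧ Fintype.card F ≠ 11 := by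
    have hev : ¬ Odd (Fintype.card F) := fun h => two_ne_zero_of_odd_card h h2
    rw [Nat.not_odd_iff_even, Nat.even_iff] at hev
    omega
  have hnu' : ∀ (k : P2) (ω : Om), k • ω = ω → IsUni k → k = 1 := by
    intro k ω hk hu
    obtain ⟨g, rfl⟩ := exists_smul_eq P2 (((1 : P2) : Om)) ω
    have h1 : g⁻¹ * k * g ∈ H := by
      rw [← stab_one (H := H), mem_stabilizer_iff, mul_smul, mul_smul, hk, inv_smul_smul]
    have h' := hnu _ h1 (by
      have h' := (isUni_conj g⁻¹).mpr hu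
      rwa [inv_inv] at h')
    calc k = g * (g⁻¹ * k * g) * g⁻¹ := by group
      _ = 1 := by rw [h']; group
  have hlift : ∀ x ∈ H, x ≠ 1 → (∀ c : F, c ^ 2 + c + 1 ≠ 0) ∧ ∃ X : S2, proj X = x ∧ (X : M2).trace = 1 := by
    intro x hx hx1
    have hxs : ¬ IsUni x := fun h => hx1 (hnu x hx h)
    by_contra hc
    refine not_binary_torus h4 h5.1 hnu' hxs (exists_fixed_of_mem hx)
      (pw_le_normalizer h4 (stab_ne_top hH) hxs (exists_fixed_of_mem hx)
        (isCoatom_torus hxs (three_le_card_cen h4 h5.1 hxs) (by omega) h5.2.1 h5.2.2.1 (fun _ => h5.2.2.2)))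
      (fun X hX _ ht => ?_) hbin
    by_contra hroot
    push Not at hroot
    exact hc ⟨hroot, X, hX, ht⟩
  obtain ⟨⟨x, hx⟩, hne'⟩ := Subgroup.ne_bot_iff_exists_ne_one.mp hne
  have hx1 : x ≠ 1 := fun e => hne' (Subtype.ext e)
  obtain ⟨hroot, X, rfl, hX⟩ := hlift x hx hx1
  refine ⟨hroot, ?_⟩
  have hxs : ¬ IsUni (proj X) := fun h => hx1 (hnu _ hx h)
  have hle : H ≤ cen (proj X) := by
    intro y hy
    by_cases hy1 : y = 1
    · exact hy1 ▸ Subgroup.one_mem _
    obtain ⟨-, Y, rfl, hY⟩ := hlift y hy hy1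
    refine mem_cen_of_commute_two h2 ?_
    by_cases hxy : proj X * proj Y = 1
    · rw [eq_inv_of_mul_eq_one_right hxy, inv_mul_cancel, mul_inv_cancel]
    · obtain ⟨-, Z, hZ, hZt⟩ := hlift _ (H.mul_mem hx hy) hxy
      rw [← map_mul] at hZ
      rw [proj_eq_two h2 hZ] at hZt
      rw [commute_of_traces h2 hroot hX hY hZt]
  have := isCyclic_cen hxs
  have : IsCyclic H := Subgroup.isCyclic_of_le hle
  obtain ⟨z, hz⟩ := IsCyclic.exists_ofOrder_eq_natCard (α := H)
  have hz1 : (z : P2) ≠ 1 := fun e => by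
    rw [show z = 1 from Subtype.ext e, orderOf_one] at hz
    exact hne (Subgroup.eq_bot_of_card_eq H hz.symm)
  obtain ⟨-, Z, hZ, hZt⟩ := hlift _ z.2 hz1
  rw [← hz, ← Subgroup.orderOf_coe]
  exact orderOf_eq_prime (hp := ⟨Nat.prime_three⟩) (hZ ▸ cube_of_trace_one h2 hZt) hz1

/-- The classification, forward direction. -/
theorem forward (h4 : 4 ≤ Fintype.card F) (h5 : Fintype.card F ≠ 5) (hH : H ≠ ⊤) (hne : H ≠ ⊥)
    (hbin : IsBinaryAct P2 Om) :
    ((∃ a : ℕ, Fintype.card F = 2 ^ a) ∧ ∃ P : Sylow 2 P2, H = P) ∨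
      ((∃ a : ℕ, Odd a ∧ Fintype.card F = 2 ^ a) ∧ Nat.card H = 3) := by
  have hpow : (2 : F) = 0 → ∃ a : ℕ, Fintype.card F = 2 ^ a := fun h2 => by
    have : CharP F 2 := CharTwo.of_one_ne_zero_of_two_eq_zero one_ne_zero h2
    obtain ⟨f, -, hf⟩ := FiniteField.card F 2
    exact ⟨f, hf⟩
  by_cases hu : ∀ k ∈ H, IsUni k → k = 1
  · by_cases h2 : (2 : F) = 0
    · obtain ⟨hroot, hc⟩ := card_three_of_even h4 h2 hH hne hu hbin
      obtain ⟨a, ha⟩ := hpow h2
      exact Or.inr ⟨⟨a, (root_iff ha).mp hroot, ha⟩, hc⟩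
    · exact absurd hbin (not_binary_odd h4 h5 h2 hH hne hu)
  push Not at hu
  obtain ⟨k, hk, hku, hk1⟩ := hu
  obtain ⟨g, hg⟩ := exists_conj_stdUni hk1 hku
  have hfix : ∃ ω : Om, (g * k * g⁻¹) • ω = ω := exists_fixed_conj g (exists_fixed_of_mem hk)
  rcases unipotent_case h4 (stab_ne_top hH) hg (fun e => hk1 (by rwa [conj_eq_one_iff] at e)) hfix with
    h | ⟨h2, ω, hω⟩
  · exact absurd hbin h
  obtain ⟨a, ha⟩ := hpow h2
  refine Or.inl ⟨⟨a, ha⟩, ?_⟩
  have hc : Nat.card H = Fintype.card F := by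
    have h := card_stabilizer_eq (G := P2) ω ((1 : P2) : Om)
    rw [stab_one, hω, card_cen_stdUni] at h
    exact h.symm
  have : Fact (Nat.Prime 2) := ⟨Nat.prime_two⟩
  have hp : IsPGroup 2 H := IsPGroup.of_card (hc.trans ha)
  have hidx : ¬ 2 ∣ H.index := by
    have h := card_PSL_two_mul (F := F)
    have hg1 : Nat.gcd 2 (Fintype.card F - 1) = 1 := by
      have ha0 : a ≠ 0 := fun e => by rw [e] at ha; omega
      have hev : 2 ∣ Fintype.card F := ha ▸ dvd_pow_self 2 ha0
      refine Nat.prime_two.coprime_iff_not_dvd.mpr fun h' => ?_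
      omega
    rw [hg1, one_mul, ← H.index_mul_card, hc, mul_comm, Nat.mul_left_cancel_iff (by omega)] at h
    rw [h]
    intro hd
    have hev : 2 ∣ Fintype.card F ^ 2 := by
      have ha0 : a ≠ 0 := fun e => by rw [e] at ha; omega
      exact (ha ▸ dvd_pow_self 2 ha0 : 2 ∣ Fintype.card F).trans (dvd_pow_self _ two_ne_zero)
    have : 1 ≤ Fintype.card F ^ 2 := Nat.one_le_pow _ _ (by omega)
    omega
  exact ⟨hp.toSylow hidx, (IsPGroup.toSylow_coe hp hidx).symm⟩

/-- The converse. -/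
theorem backward
    (h : H = ⊥ ∨ ((∃ a : ℕ, Fintype.card F = 2 ^ a) ∧ ∃ P : Sylow 2 P2, H = P) ∨
      ((∃ a : ℕ, Odd a ∧ Fintype.card F = 2 ^ a) ∧ Nat.card H = 3)) :
    IsBinaryAct P2 Om := by
  have hstab : ∀ (ω : Om) (x : P2), x • ω = ω → ∃ g : P2, g * x * g⁻¹ ∈ H := by
    intro ω x hx
    obtain ⟨g, rfl⟩ := exists_smul_eq P2 (((1 : P2) : Om)) ω
    refine ⟨g⁻¹, ?_⟩
    rw [← stab_one (H := H), mem_stabilizer_iff, mul_smul, mul_smul, inv_inv, hx, inv_smul_smul]
  rcases h with h | ⟨⟨a, ha⟩, P, hP⟩ | ⟨⟨a, hodd, ha⟩, h3⟩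
  · refine binary_of_free fun g ω hg => ?_
    obtain ⟨c, hc⟩ := hstab ω g hg
    rwa [h, Subgroup.mem_bot, conj_eq_one_iff] at hc
  all_goals
    have h2 : (2 : F) = 0 := by
      have h := Nat.cast_card_eq_zero F
      rw [ha, Nat.cast_pow] at h
      exact_mod_cast eq_zero_of_pow_eq_zero h
  · -- Sylow 2-subgroups
    have : Fact (Nat.Prime 2) := ⟨Nat.prime_two⟩
    have hchar : CharP F 2 := CharTwo.of_one_ne_zero_of_two_eq_zero one_ne_zero h2
    obtain ⟨Q, hQ⟩ := (isPGroup_cen_stdUni (F := F) 2).exists_le_sylow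
    have hcard : Nat.card P = Fintype.card F := by
      have hp : IsPGroup 2 (P : Subgroup P2) := P.isPGroup'
      have hQc : Nat.card Q = Nat.card P := by
        rw [Sylow.card_eq_multiplicity, Sylow.card_eq_multiplicity]
      obtain ⟨n, hn⟩ := IsPGroup.iff_card.mp hp
      refine le_antisymm ?_ (hQc ▸ card_cen_stdUni (F := F) ▸ Subgroup.card_le_of_le hQ)
      by_contra hlt
      rw [not_le, hn] at hlt
      rw [ha] at hlt
      have hlt' : a < n := (Nat.pow_lt_pow_iff_right one_lt_two).mp hlt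
      have hd : 2 ^ n ∣ Nat.card P2 := hn ▸ (P : Subgroup P2).card_subgroup_dvd_card
      have hG := card_PSL_two_mul (F := F)
      have hd' : 2 ^ n ∣ Fintype.card F * (Fintype.card F ^ 2 - 1) := hG ▸ hd.mul_left _
      rw [ha] at hd'
      have hd'' : 2 ^ (a + 1) ∣ 2 ^ a * ((2 ^ a) ^ 2 - 1) := (pow_dvd_pow 2 hlt').trans hd'
      rw [pow_succ] at hd''
      have := Nat.dvd_of_mul_dvd_mul_left (Nat.two_pow_pos a) hd''
      have ha0 : a ≠ 0 := fun e => by
        have := Fintype.one_lt_card (α := F)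
        rw [ha, e] at this
        simp at this
      have hev : 2 ∣ (2 ^ a) ^ 2 := (dvd_pow_self 2 ha0).trans (dvd_pow_self _ two_ne_zero)
      have : 1 ≤ (2 ^ a) ^ 2 := Nat.one_le_pow _ _ (Nat.two_pow_pos a)
      omega
    have hUQ : cen (stdUni : P2) = Q := Subgroup.eq_of_le_of_card_ge hQ (by
      rw [card_cen_stdUni, show Nat.card Q = Nat.card P by rw [Sylow.card_eq_multiplicity, Sylow.card_eq_multiplicity],
        hcard])
    obtain ⟨c, hc⟩ := exists_smul_eq P2 Q P
    have hmem : ∀ z : P2, z ∈ H ↔ c⁻¹ * z * c ∈ cen (stdUni : P2) := by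
      intro z
      rw [hP, ← hc, hUQ, Sylow.coe_subgroup_smul, Subgroup.mem_pointwise_smul_iff_inv_smul_mem,
        ← map_inv (MulAut.conj), MulAut.smul_def, MulAut.conj_apply, inv_inv]
    have hsq : ∀ z ∈ H, z * z = 1 := fun z hz => by
      have h := eq_one_of_invol_two h2 (isUni_of_mem_cen_stdUni ((hmem z).mp hz))
      calc z * z = c * ((c⁻¹ * z * c) * (c⁻¹ * z * c)) * c⁻¹ := by group
        _ = 1 := by rw [h]; group
    have hsq' : ∀ (ω : Om) (z : P2), z • ω = ω → z * z = 1 := fun ω z hz => by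
      obtain ⟨g, hg⟩ := hstab ω z hz
      have h := hsq _ hg
      calc z * z = g⁻¹ * ((g * z * g⁻¹) * (g * z * g⁻¹)) * g := by group
        _ = 1 := by rw [h]; group
    have hcen : ∀ (ω : Om) (z : P2), z ≠ 1 → z • ω = ω → stabilizer P2 ω = cen z := by
      intro ω z hz hzω
      obtain ⟨g, rfl⟩ := exists_smul_eq P2 (((1 : P2) : Om)) ω
      have hH : ∀ t : P2, t ∈ stabilizer P2 (g • ((1 : P2) : Om)) ↔ g⁻¹ * t * g ∈ H := fun t => by
        have h : t ∈ stabilizer P2 (g • ((1 : P2) : Om)) ↔ g⁻¹ * t * g ∈ stabilizer P2 ((1 : P2) : Om) := by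
          rw [mem_stabilizer_iff, mem_stabilizer_iff, mul_smul, mul_smul, inv_smul_eq_iff]
        rwa [stab_one] at h
      have h1 := (hmem _).mp ((hH z).mp hzω)
      have h2' : c⁻¹ * (g⁻¹ * z * g) * c ≠ 1 := fun e => hz (by
        calc z = g * c * (c⁻¹ * (g⁻¹ * z * g) * c) * c⁻¹ * g⁻¹ := by group
          _ = 1 := by rw [e]; group)
      ext t
      rw [hH, hmem, ← cen_eq_of_mem stdUni_ne_one h2' h1,
        show c⁻¹ * (g⁻¹ * t * g) * c = (g * c)⁻¹ * t * (g * c)⁻¹⁻¹ by group,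
        show c⁻¹ * (g⁻¹ * z * g) * c = (g * c)⁻¹ * z * (g * c)⁻¹⁻¹ by group, mem_cen_conj]
    refine binary_of_ti (fun p q a b ha hb hap hbq hab => ?_) (fun p q r d f hd hf hdp hfq hdfr => ?_)
    · rw [hcen p a ha hap, hcen q b hb hbq]
      exact (cen_eq_of_mem ha hb (mem_cen_of_commute_two h2 hab.symm)).symm
    · have e1 := hsq' p d hdp
      have e2 := hsq' q f hfq
      have e3 := hsq' r _ hdfr
      calc d * f = (d * f)⁻¹ := eq_inv_of_mul_eq_one_left e3
        _ = f⁻¹ * d⁻¹ := mul_inv_rev d f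
        _ = f * d := by rw [inv_eq_of_mul_eq_one_right e1, inv_eq_of_mul_eq_one_right e2]
  · -- subgroups of order 3
    have hroot := (root_iff ha).mpr hodd
    have : Fact (Nat.Prime 3) := ⟨Nat.prime_three⟩
    have hcube : ∀ (ω : Om) (z : P2), z • ω = ω → z ^ 3 = 1 := fun ω z hz => by
      obtain ⟨g, hg⟩ := hstab ω z hz
      have h : (g * z * g⁻¹) ^ 3 = 1 := by
        have := pow_card_eq_one' (G := H) (x := ⟨_, hg⟩)
        rw [h3] at this
        exact congrArg Subtype.val this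
      rwa [conj_pow, conj_eq_one_iff] at h
    have hord : ∀ ω : Om, Nat.card (stabilizer P2 ω) = 3 := fun ω => by
      rw [card_stabilizer_eq ω ((1 : P2) : Om), stab_one, h3]
    have hnu : ∀ (z : P2), z ≠ 1 → z ^ 3 = 1 → ¬ IsUni z := fun z hz hz3 hu => hz (by
      have h2' := eq_one_of_invol_two h2 hu
      calc z = z ^ 3 * (z * z)⁻¹ := by group
        _ = 1 := by rw [hz3, h2', inv_one, one_mul])
    refine binary_of_ti (fun p q a b ha hb hap hbq hab => ?_) (fun p q r d f hd hf hdp hfq hdfr => ?_)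
    · have hzp : ∀ (ω : Om) (z : P2), z ≠ 1 → z • ω = ω → stabilizer P2 ω = Subgroup.zpowers z := by
        intro ω z hz hzω
        refine (Subgroup.eq_of_le_of_card_ge (Subgroup.zpowers_le.mpr hzω) ?_).symm
        rw [hord ω, Nat.card_zpowers, orderOf_eq_prime (hcube ω z hzω) hz]
      rw [hzp p a ha hap, hzp q b hb hbq]
      have hbm := mem_cen_of_commute_two h2 hab.symm
      have hcyc := isCyclic_cen (hnu a ha (hcube p a hap))
      have hle1 : Subgroup.zpowers a ≤ cen a := Subgroup.zpowers_le.mpr (mem_cen_self a)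
      have hle2 : Subgroup.zpowers b ≤ cen a := Subgroup.zpowers_le.mpr hbm
      have hc1 : Nat.card ((Subgroup.zpowers a).subgroupOf (cen a)) = 3 := by
        rw [Nat.card_congr (Subgroup.subgroupOfEquivOfLe hle1).toEquiv, Nat.card_zpowers,
          orderOf_eq_prime (hcube p a hap) ha]
      have hc2 : Nat.card ((Subgroup.zpowers b).subgroupOf (cen a)) = 3 := by
        rw [Nat.card_congr (Subgroup.subgroupOfEquivOfLe hle2).toEquiv, Nat.card_zpowers,
          orderOf_eq_prime (hcube q b hbq) hb]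
      have := eq_of_card_eq_cyclic (A := cen a) _ _ (hc1.trans hc2.symm)
      rwa [Subgroup.subgroupOf_inj, inf_eq_left.mpr hle1, inf_eq_left.mpr hle2] at this
    · obtain ⟨D, rfl⟩ := proj_surjective d
      obtain ⟨E, rfl⟩ := proj_surjective f
      by_cases hde : proj D * proj E = 1
      · rw [hde, eq_inv_of_mul_eq_one_right hde, inv_mul_cancel]
      · have t1 := trace_one_of_cube h2 (hcube p _ hdp) hd
        have t2 := trace_one_of_cube h2 (hcube q _ hfq) hf
        rw [← map_mul] at hdfr hde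
        have t3 := trace_one_of_cube h2 (hcube r _ hdfr) hde
        rw [commute_of_traces h2 hroot t1 t2 t3]

end Forward

end Cfsg.Agent.H33.Binary
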