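import Cfsg.Agent.H33.Binary.PSLCases

/-!
Binary actions of PSL_2(7): the actions of degree 7 and 14 are not binary.
-/

set_option autoImplicit false

namespace Cfsg.Agent.H33.Binary

open MulAction

section Abstract

variable {G Ω : Type*} [Group G] [MulAction G Ω] [Finite G] [Finite Ω] [IsPretransitive G Ω]

theorem card_stabilizer_eq_div (ω : Ω) : Nat.card Ω * Nat.card (stabilizer G ω) = Nat.card G := by
  rw [← index_stabilizer_of_transitive G ω]
  exact (Subgroup.index_mul_card _)

theorem card_stabilizer_eq (p q : Ω) : Nat.card (stabilizer G p) = Nat.card (stabilizer G q) := by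
  have : Nonempty Ω := ⟨p⟩
  exact Nat.eq_of_mul_eq_mul_left Nat.card_pos ((card_stabilizer_eq_div p).trans (card_stabilizer_eq_div q).symm)

theorem not_binary_of_five (h5 : ¬ 5 ∣ Nat.card G) (hn : Nat.card Ω = 7)
    (h2t : ∀ p q r : Ω, q ≠ p → r ≠ p → ∃ g ∈ stabilizer G p, g • q = r) : ¬ IsBinaryAct G Ω := by
  intro hbin
  classical
  have : Fintype Ω := Fintype.ofFinite Ω
  rw [Nat.card_eq_fintype_card] at hn
  obtain ⟨p, q, hpq⟩ := Fintype.exists_pair_of_one_lt_card (α := Ω) (by omega)
  obtain ⟨r, hr⟩ : ∃ r : Ω, r ∉ ({p, q} : Finset Ω) := by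
    by_contra! h
    have := Finset.card_le_card (show (Finset.univ : Finset Ω) ⊆ {p, q} from fun x _ => h x)
    rw [Finset.card_univ, Finset.card_pair hpq] at this
    omega
  simp only [Finset.mem_insert, Finset.mem_singleton, not_or] at hr
  set K : Subgroup G := stabilizer G p ⊓ stabilizer G q
  have horb : MulAction.orbit K r = {x : Ω | x ≠ p ∧ x ≠ q} := by
    ext x
    constructor
    · rintro ⟨⟨k, hkp, hkq⟩, rfl⟩
      refine ⟨fun e => hr.1 ?_, fun e => hr.2 ?_⟩
      · change k • r = p at e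
        exact MulAction.injective k (e.trans (mem_stabilizer_iff.mp hkp).symm)
      · change k • r = q at e
        exact MulAction.injective k (e.trans (mem_stabilizer_iff.mp hkq).symm)
    · rintro ⟨hxp, hxq⟩
      obtain ⟨k, hk⟩ := hbin 3 ![p, q, r] ![p, q, x] (by norm_num) (by
        intro i j hij
        fin_cases i <;> fin_cases j <;> first
          | exact absurd rfl hij
          | exact ⟨1, one_smul _ _, one_smul _ _⟩
          | (obtain ⟨g, hg, hg'⟩ := h2t p r x hr.1 hxp
             first | exact ⟨g, hg, hg'⟩ | exact ⟨g, hg', hg⟩)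
          | (obtain ⟨g, hg, hg'⟩ := h2t q r x hr.2 hxq
             first | exact ⟨g, hg, hg'⟩ | exact ⟨g, hg', hg⟩))
      exact ⟨⟨k, hk 0, hk 1⟩, hk 2⟩
  have hc : Nat.card (MulAction.orbit K r) = 5 := by
    rw [horb]
    have : ({x : Ω | x ≠ p ∧ x ≠ q} : Set Ω) = ↑((Finset.univ : Finset Ω) \ {p, q}) := by
      ext x; simp
    rw [this, Nat.card_coe_set_eq, Set.ncard_coe_finset, Finset.card_univ_diff, Finset.card_pair hpq, hn]
  have h1 : Nat.card (MulAction.orbit K r) ∣ Nat.card K := by
    rw [Nat.card_congr (MulAction.orbitEquivQuotientStabilizer K r)]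
    exact Subgroup.card_quotient_dvd_card _
  exact h5 ((hc ▸ h1).trans K.card_subgroup_dvd_card)

theorem not_binary_of_two_fixed (hn : Nat.card Ω = 14) (hG : Nat.card G = 168)
    (hfix : ∀ (p : Ω) (k : G), k ∈ stabilizer G p → k ≠ 1 → Nat.card (fixedBy Ω k) = 2) :
    ¬ IsBinaryAct G Ω := by
  classical
  have : Fintype Ω := Fintype.ofFinite Ω
  have hn' : Fintype.card Ω = 14 := by rwa [← Nat.card_eq_fintype_card]
  have hcard : ∀ p : Ω, Nat.card (stabilizer G p) = 12 := fun p => by
    have := card_stabilizer_eq_div (G := G) p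
    rw [hn, hG] at this
    omega
  -- free outside the fixed pair
  have hfree : ∀ (k : G) (a b c : Ω), k • a = a → k • b = b → k • c = c → a ≠ b → a ≠ c → b ≠ c → k = 1 := by
    intro k a b c ha hb hc hab hac hbc
    by_contra hk
    have h2 := hfix a k ha hk
    have h3 : ({a, b, c} : Finset Ω).card ≤ Nat.card (fixedBy Ω k) := by
      rw [Nat.card_coe_set_eq, ← Set.ncard_coe_finset]
      exact Set.ncard_le_ncard (by intro x hx; simp at hx; rcases hx with rfl | rfl | rfl <;> assumption)
    rw [Finset.card_insert_of_notMem (by simp [hab, hac]), Finset.card_pair hbc, h2] at h3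
    omega
  -- every stabiliser fixes a second point
  have hpartner : ∀ p : Ω, ∃ p' : Ω, p' ≠ p ∧ stabilizer G p' = stabilizer G p := by
    intro p
    set H := stabilizer G p
    have : Fintype H := Fintype.ofFinite H
    have hburn := sum_card_fixedBy_eq_card_orbits_mul_card_group H Ω
    have hsum : ∑ a : H, Fintype.card (fixedBy Ω a) = 36 := by
      rw [← Finset.add_sum_erase _ _ (Finset.mem_univ (1 : H))]
      have h1 : Fintype.card (fixedBy Ω (1 : H)) = 14 := by
        rw [← hn']
        exact Fintype.card_congr ((Equiv.setCongr (by ext x; simp)).trans (Equiv.Set.univ Ω))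
      have h2 : ∀ a ∈ (Finset.univ : Finset H).erase 1, Fintype.card (fixedBy Ω a) = 2 := by
        intro a ha
        rw [Finset.mem_erase] at ha
        rw [← Nat.card_eq_fintype_card]
        exact hfix p a a.2 (fun e => ha.1 (Subtype.ext e))
      rw [h1, Finset.sum_congr rfl h2, Finset.sum_const, Finset.card_erase_of_mem (Finset.mem_univ _),
        Finset.card_univ, ← Nat.card_eq_fintype_card, hcard p]
      norm_num
    rw [hsum, ← Nat.card_eq_fintype_card (α := H), hcard p, ← Nat.card_eq_fintype_card] at hburn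
    by_contra! hno
    -- otherwise every other point lies in an orbit of even or triple length
    have hq : ∀ q : Ω, q ≠ p → Nat.card (MulAction.orbit H q) ∣ 12 ∧ Nat.card (MulAction.orbit H q) ≠ 1 := by
      intro q hq
      refine ⟨hcard p ▸ ?_, fun h1 => hno q hq (Subgroup.eq_of_le_of_card_ge (fun g hg => ?_)
        (by rw [hcard p, hcard q])).symm⟩
      · rw [Nat.card_congr (MulAction.orbitEquivQuotientStabilizer H q)]
        exact Subgroup.card_quotient_dvd_card _
      · have := (Nat.card_eq_one_iff_unique.mp h1).1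
        exact congrArg Subtype.val (Subsingleton.elim
          (⟨g • q, ⟨⟨g, hg⟩, rfl⟩⟩ : MulAction.orbit H q) ⟨q, mem_orbit_self q⟩)
    have hQ : Nat.card (orbitRel.Quotient H Ω) = 3 := by
      show Nat.card (Quotient (orbitRel H Ω)) = 3
      omega
    have : Fintype (orbitRel.Quotient H Ω) := Fintype.ofFinite _
    rw [Nat.card_eq_fintype_card] at hQ
    set cp : orbitRel.Quotient H Ω := Quotient.mk'' p
    have hdec : 14 = ∑ w : orbitRel.Quotient H Ω, Nat.card w.orbit := by
      rw [← hn', ← Nat.card_eq_fintype_card, Nat.card_congr (selfEquivSigmaOrbits' H Ω), Nat.card_sigma]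
    rw [← Finset.add_sum_erase _ _ (Finset.mem_univ cp)] at hdec
    have hp1 : Nat.card cp.orbit = 1 := by
      rw [show cp.orbit = MulAction.orbit H p from orbitRel.Quotient.orbit_mk p]
      rw [Nat.card_eq_one_iff_unique]
      refine ⟨⟨?_⟩, ⟨⟨p, mem_orbit_self p⟩⟩⟩
      rintro ⟨_, ⟨a, rfl⟩⟩ ⟨_, ⟨b, rfl⟩⟩
      exact Subtype.ext ((mem_stabilizer_iff.mp a.2).trans (mem_stabilizer_iff.mp b.2).symm)
    have hE : ((Finset.univ : Finset (orbitRel.Quotient H Ω)).erase cp).card = 2 := by
      rw [Finset.card_erase_of_mem (Finset.mem_univ _), Finset.card_univ, hQ]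
    obtain ⟨u, v, huv, hEuv⟩ := Finset.card_eq_two.mp hE
    have key : ∀ w ∈ (Finset.univ : Finset (orbitRel.Quotient H Ω)).erase cp,
        Nat.card w.orbit ∣ 12 ∧ Nat.card w.orbit ≠ 1 := by
      intro w hw
      rw [Finset.mem_erase] at hw
      induction w using Quotient.inductionOn' with
      | h q =>
        rw [show orbitRel.Quotient.orbit (Quotient.mk'' q : orbitRel.Quotient H Ω) = MulAction.orbit H q from
          orbitRel.Quotient.orbit_mk q]
        exact hq q fun e => hw.1 (by rw [e])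
    rw [hEuv, Finset.sum_pair huv, hp1] at hdec
    obtain ⟨du, nu⟩ := key u (hEuv ▸ Finset.mem_insert_self u {v})
    obtain ⟨dv, nv⟩ := key v (hEuv ▸ Finset.mem_insert_of_mem (Finset.mem_singleton_self v))
    generalize Nat.card u.orbit = a at *
    generalize Nat.card v.orbit = b at *
    have := Nat.le_of_dvd (by norm_num) du
    interval_cases a <;> first | omega | (rw [show b = 11 by omega] at dv; norm_num at dv) |
      (rw [show b = 10 by omega] at dv; norm_num at dv) | (rw [show b = 9 by omega] at dv; norm_num at dv) |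
      (rw [show b = 7 by omega] at dv; norm_num at dv) | (norm_num at du)
  choose π hπ hπs using hpartner
  have hmove : ∀ p q r : Ω, q ≠ p → q ≠ π p → r ≠ p → r ≠ π p → ∃ g ∈ stabilizer G p, g • q = r := by
    intro p q r hq hq' hr hr'
    set S : Set Ω := {x | x ≠ p ∧ x ≠ π p}
    have hS : Set.ncard S = 12 := by
      have : S = ↑((Finset.univ : Finset Ω) \ {p, π p}) := by ext x; simp [S]
      rw [this, Set.ncard_coe_finset, Finset.card_univ_diff, Finset.card_pair (hπ p).symm, hn']
    have hsub : (fun g : stabilizer G p => (g : G) • q) '' Set.univ ⊆ S := by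
      rintro _ ⟨⟨g, hg⟩, -, rfl⟩
      refine ⟨fun e => hq (MulAction.injective g (e.trans (mem_stabilizer_iff.mp hg).symm)),
        fun e => hq' (MulAction.injective g (e.trans ?_))⟩
      exact (mem_stabilizer_iff.mp ((hπs p).symm ▸ hg : g ∈ stabilizer G (π p))).symm
    have hinj : Function.Injective (fun g : stabilizer G p => (g : G) • q) := by
      rintro ⟨g, hg⟩ ⟨g', hg'⟩ h
      refine Subtype.ext (inv_mul_eq_one.mp (hfree (g⁻¹ * g') p (π p) q
        (mem_stabilizer_iff.mp (mul_mem (inv_mem hg) hg')) ?_ ?_ (hπ p).symm hq.symm (fun e => hq' e.symm)))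
      · exact mem_stabilizer_iff.mp ((hπs p).symm ▸ mul_mem (inv_mem hg) hg' : g⁻¹ * g' ∈ stabilizer G (π p))
      · rw [mul_smul, inv_smul_eq_iff]; exact h.symm
    have heq := Set.eq_of_subset_of_ncard_le hsub (by
      rw [hS, Set.ncard_image_of_injective _ hinj, Set.ncard_univ, hcard p])
    obtain ⟨⟨g, hg⟩, -, hgr⟩ := heq.symm ▸ (show r ∈ S from ⟨hr, hr'⟩)
    exact ⟨g, hg, hgr⟩
  intro hbin
  obtain ⟨p⟩ : Nonempty Ω := Fintype.card_pos_iff.mp (by omega)
  obtain ⟨q, hq⟩ : ∃ q : Ω, q ∉ ({p, π p} : Finset Ω) := by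
    by_contra! h
    have := (Finset.card_le_card (show (Finset.univ : Finset Ω) ⊆ {p, π p} from fun x _ => h x)).trans
      Finset.card_le_two
    rw [Finset.card_univ] at this
    omega
  have hbig : 2 ≤ ((Finset.univ : Finset Ω) \ ({p, π p} ∪ {q, π q})).card := by
    rw [Finset.card_univ_diff, hn']
    have := Finset.card_union_le ({p, π p} : Finset Ω) {q, π q}
    have := Finset.card_le_two (a := p) (b := π p)
    have := Finset.card_le_two (a := q) (b := π q)
    omega
  obtain ⟨r, hr, r', hr', hrr⟩ := Finset.one_lt_card.mp hbig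
  simp only [Finset.mem_sdiff, Finset.mem_univ, true_and, Finset.mem_union, Finset.mem_insert,
    Finset.mem_singleton, not_or] at hr hr' hq
  obtain ⟨⟨rp, rp'⟩, rq, rq'⟩ := hr
  obtain ⟨⟨sp, sp'⟩, sq, sq'⟩ := hr'
  obtain ⟨k, hk⟩ := hbin 3 ![p, q, r] ![p, q, r'] (by norm_num) (by
    intro i j hij
    fin_cases i <;> fin_cases j <;> first
      | exact absurd rfl hij
      | exact ⟨1, one_smul _ _, one_smul _ _⟩
      | (obtain ⟨g, hg, hg'⟩ := hmove p r r' rp rp' sp sp'
         first | exact ⟨g, hg, hg'⟩ | exact ⟨g, hg', hg⟩)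
      | (obtain ⟨g, hg, hg'⟩ := hmove q r r' rq rq' sq sq'
         first | exact ⟨g, hg, hg'⟩ | exact ⟨g, hg', hg⟩))
  have hk1 := hfree k p (π p) q (hk 0)
    (mem_stabilizer_iff.mp ((hπs p).symm ▸ (mem_stabilizer_iff.mpr (hk 0)) : k ∈ stabilizer G (π p)))
    (hk 1) (hπ p).symm (fun e => hq.1 e.symm) (fun e => hq.2 e.symm)
  exact hrr (by simpa [hk1] using hk 2)

/-- Fixed points of an element, bounded by conjugates inside the stabiliser. -/
theorem card_fixedBy_mul_le {p : Ω} (k : G) (P : G → Prop)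
    (hP : ∀ c : G, c⁻¹ * k * c ∈ stabilizer G p → P (c⁻¹ * k * c)) :
    Nat.card (fixedBy Ω k) * Nat.card (stabilizer G p) ≤
      Nat.card (Subgroup.centralizer ({k} : Set G)) * Nat.card {h : stabilizer G p // P h} := by
  have hs : ∀ x : fixedBy Ω k, ∃ c : G, c • p = x.1 := fun x => exists_smul_eq G p x.1
  choose c hc using hs
  rw [← Nat.card_prod, ← Nat.card_prod]
  have hmem : ∀ (x : fixedBy Ω k) (g : stabilizer G p), (c x * g)⁻¹ * k * (c x * g) ∈ stabilizer G p := by
    intro x g
    rw [mem_stabilizer_iff, mul_smul, mul_smul, mul_smul, mem_stabilizer_iff.mp g.2, hc,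
      show k • (x.1 : Ω) = x.1 from x.2, inv_smul_eq_iff, mul_smul, mem_stabilizer_iff.mp g.2, hc]
  let h : fixedBy Ω k × stabilizer G p → {h : stabilizer G p // P h} := fun a =>
    ⟨⟨_, hmem a.1 a.2⟩, hP _ (hmem a.1 a.2)⟩
  classical
  let rep : {h : stabilizer G p // P h} → G := fun t =>
    if e : ∃ c : G, c⁻¹ * k * c = (t.1 : G) then e.choose else 1
  refine Nat.card_le_card_of_injective (fun a => (⟨c a.1 * a.2 * (rep (h a))⁻¹, ?_⟩, h a)) ?_
  · have e : ∃ d : G, d⁻¹ * k * d = ((h a).1 : G) := ⟨c a.1 * a.2, rfl⟩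
    have hr : (rep (h a))⁻¹ * k * rep (h a) = (c a.1 * a.2)⁻¹ * k * (c a.1 * a.2) := by
      simp only [rep, dif_pos e]
      exact e.choose_spec
    rw [Subgroup.mem_centralizer_singleton_iff]
    calc c a.1 * a.2 * (rep (h a))⁻¹ * k = c a.1 * a.2 * ((rep (h a))⁻¹ * k * rep (h a)) * (rep (h a))⁻¹ := by
          group
      _ = k * (c a.1 * a.2 * (rep (h a))⁻¹) := by rw [hr]; group
  · rintro ⟨x, g⟩ ⟨y, g'⟩ e
    have e1 := congrArg Prod.fst e
    have e2 := congrArg Prod.snd e
    have e3 : c x * (g : G) = c y * (g' : G) := by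
      have := congrArg Subtype.val e1
      simp only [show h (x, g) = h (y, g') from e2] at this
      exact mul_right_cancel this
    have hxy : x = y := Subtype.ext (by
      rw [← hc x, ← hc y]
      calc c x • p = (c x * (g : G)) • p := by rw [mul_smul, mem_stabilizer_iff.mp g.2]
        _ = (c y * (g' : G)) • p := by rw [e3]
        _ = c y • p := by rw [mul_smul, mem_stabilizer_iff.mp g'.2])
    subst hxy
    exact Prod.ext rfl (Subtype.ext (mul_left_cancel e3))

theorem fixedBy_modEq (r : ℕ) [Fact r.Prime] (k : G) (hk : k ^ r = 1) :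
    Nat.card Ω ≡ Nat.card (fixedBy Ω k) [MOD r] := by
  have hp : IsPGroup r (Subgroup.zpowers k) := by
    rintro ⟨a, n, rfl⟩
    refine ⟨1, Subtype.ext ?_⟩
    show (k ^ n) ^ (r ^ 1) = 1
    rw [pow_one, ← zpow_natCast, ← zpow_mul, mul_comm, zpow_mul, zpow_natCast, hk, one_zpow]
  have e : fixedPoints (Subgroup.zpowers k) Ω = fixedBy Ω k := by
    ext x
    refine ⟨fun h => h ⟨k, Subgroup.mem_zpowers k⟩, ?_⟩
    rintro h ⟨a, n, rfl⟩
    exact (Subgroup.zpowers_le.mpr (show k ∈ stabilizer G x from h)) ⟨n, rfl⟩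
  rw [← e]
  exact hp.card_modEq_card_fixedPoints Ω

end Abstract

section PSL

open Matrix Cfsg.Agent.Linear Cfsg.Agent.Linear.Dickson

variable {F : Type*} [Field F] [Fintype F]

local notation "P2" => Matrix.ProjectiveSpecialLinearGroup (Fin 2) F

theorem mem_cen_of_commute {x y : P2} (hx : ¬ IsUni x) (hx2 : x * x ≠ 1) (h : y * x = x * y) : y ∈ cen x := by
  have hyx : y * x * y⁻¹ = x := by rw [h, mul_inv_cancel_right]
  have hn : ∀ z, z ∈ cen x ↔ y * z * y⁻¹ ∈ cen x := fun z => by
    have := mem_cen_conj y x z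
    rw [hyx] at this
    exact this.symm
  refine (normalizer_cases hx hn).resolve_right fun h' => hx2 ?_
  have h1 := (hyx.symm.trans (h'.2 x (mem_cen_self x)))
  nth_rewrite 2 [h1]
  rw [mul_inv_cancel]

theorem centralizer_le_normalizer (x : P2) :
    Subgroup.centralizer ({x} : Set P2) ≤ Subgroup.normalizer (cen x : Set P2) := by
  intro y hy
  rw [Subgroup.mem_centralizer_singleton_iff] at hy
  rw [Subgroup.mem_normalizer_iff]
  intro z
  have := mem_cen_conj y x z
  rw [hy, mul_inv_cancel_right] at this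
  exact this.symm

theorem alt_four_count : ∀ a : alternatingGroup (Fin 4), a = 1 ∨ a ^ 2 = 1 ∨ a ^ 3 = 1 := by decide

theorem alt_four_card_two : Fintype.card {a : alternatingGroup (Fin 4) // a ^ 2 = 1 ∧ a ≠ 1} = 3 := by decide

theorem alt_four_card_three : Fintype.card {a : alternatingGroup (Fin 4) // a ^ 3 = 1 ∧ a ≠ 1} = 8 := by decide

theorem perm_four_card_three : Fintype.card {a : Equiv.Perm (Fin 4) // a ^ 3 = 1 ∧ a ≠ 1} = 8 := by decide +kernel

theorem perm_four_card_four : Fintype.card {a : Equiv.Perm (Fin 4) // a ^ 4 = 1 ∧ a ^ 2 ≠ 1} = 6 := by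
  decide +kernel

theorem perm_four_order : ∀ a : Equiv.Perm (Fin 4), a ^ 2 = 1 ∨ a ^ 3 = 1 ∨ a ^ 4 = 1 := by decide +kernel

variable (h7 : Fintype.card F = 7)
include h7

theorem card_P2_seven : Nat.card P2 = 168 := by
  have := card_PSL_two_mul (F := F)
  rw [h7] at this
  norm_num at this
  omega

theorem card_cen_seven {x : P2} (hx : ¬ IsUni x) : Nat.card (cen x) = 3 ∨ Nat.card (cen x) = 4 := by
  have := card_cen_cases hx
  rw [h7] at this
  norm_num at this
  exact this

theorem card_centralizer_three {x : P2} (hx : ¬ IsUni x) (h3 : x ^ 3 = 1) :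
    Nat.card (Subgroup.centralizer ({x} : Set P2)) ≤ 3 := by
  have hx1 := ne_one_of_not_isUni hx
  have ho : orderOf x = 3 := orderOf_eq_prime (hp := ⟨by norm_num⟩) h3 hx1
  have hx2 : x * x ≠ 1 := fun e => by
    have := Nat.le_of_dvd two_pos (ho ▸ orderOf_dvd_of_pow_eq_one (by rw [sq]; exact e))
    omega
  have hc : Nat.card (cen x) = 3 := (card_cen_seven h7 hx).resolve_right fun e => by
    have := Subgroup.orderOf_dvd_natCard (cen x) (mem_cen_self x)
    rw [e, ho] at this
    norm_num at this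
  exact hc ▸ Subgroup.card_le_of_le fun y hy =>
    mem_cen_of_commute hx hx2 (Subgroup.mem_centralizer_singleton_iff.mp hy)

theorem card_centralizer_four {x : P2} (hx : ¬ IsUni x) (h4 : x ^ 4 = 1) (h2 : x ^ 2 ≠ 1) :
    Nat.card (Subgroup.centralizer ({x} : Set P2)) ≤ 4 := by
  refine le_trans (Subgroup.card_le_of_le fun y hy => mem_cen_of_commute hx (by rwa [← sq])
    (Subgroup.mem_centralizer_singleton_iff.mp hy)) ?_
  rcases card_cen_seven h7 hx with e | e <;> omega

theorem card_centralizer_two {x : P2} (hx : ¬ IsUni x) :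
    Nat.card (Subgroup.centralizer ({x} : Set P2)) ≤ 8 := by
  refine (Subgroup.card_le_of_le (centralizer_le_normalizer x)).trans ?_
  rw [(torus_normalizer_props hx).1]
  rcases card_cen_seven h7 hx with e | e <;> omega

variable {Ω : Type*} [MulAction (Matrix.ProjectiveSpecialLinearGroup (Fin 2) F) Ω] [Finite Ω]
  [IsPretransitive (Matrix.ProjectiveSpecialLinearGroup (Fin 2) F) Ω]

omit h7 [Finite Ω] in
theorem not_uni_of_small {e : ℕ} (hp : ¬ 7 ∣ e) (h : Fintype.card F = 7) {k : P2} (hk : k ≠ 1)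
    (he : k ^ e = 1) : ¬ IsUni k := by
  intro hu
  obtain ⟨p, hchar⟩ := CharP.exists F
  have : Fact p.Prime := ⟨CharP.char_is_prime F p⟩
  obtain ⟨f, -, hf⟩ := FiniteField.card F p
  have hp7 : p = 7 := (Nat.prime_dvd_prime_iff_eq Fact.out (by norm_num)).mp (h ▸ hf ▸ dvd_pow_self p f.ne_zero)
  have := pow_char_eq_one_of_isUni p hu
  subst hp7
  have : orderOf k = 7 := orderOf_eq_prime (hp := ⟨by norm_num⟩) this hk
  exact hp (this ▸ orderOf_dvd_of_pow_eq_one he)

theorem fixed_two_of_altFour {p : Ω} (f : stabilizer P2 p ≃* alternatingGroup (Fin 4)) (k : P2)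
    (hk : k ∈ stabilizer P2 p) (hk1 : k ≠ 1) : Nat.card (fixedBy Ω k) = 2 := by
  have hc : Nat.card (stabilizer P2 p) = 12 := (Nat.card_congr f.toEquiv).trans card_alt_four
  have hn := card_stabilizer_eq_div (G := P2) p
  rw [hc, card_P2_seven h7] at hn
  have hn14 : Nat.card Ω = 14 := by omega
  have hpos : 0 < Nat.card (fixedBy Ω k) := Nat.card_pos_iff.mpr ⟨⟨⟨p, hk⟩⟩, inferInstance⟩
  have hk' : (⟨k, hk⟩ : stabilizer P2 p) ≠ 1 := fun e => hk1 (congrArg Subtype.val e)
  have hcount : ∀ e : ℕ, Nat.card {h : stabilizer P2 p // (h : P2) ^ e = 1 ∧ (h : P2) ≠ 1} =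
      Fintype.card {a : alternatingGroup (Fin 4) // a ^ e = 1 ∧ a ≠ 1} := fun e => by
    rw [← Nat.card_eq_fintype_card]
    refine Nat.card_congr (Equiv.subtypeEquiv f.toEquiv fun h => ?_)
    show _ ↔ f h ^ e = 1 ∧ f h ≠ 1
    rw [← map_pow, map_eq_one_iff f f.injective, map_ne_one_iff f f.injective]
    exact and_congr (by rw [Subtype.ext_iff, Subgroup.coe_pow, Subgroup.coe_one])
      (not_congr (by rw [Subtype.ext_iff, Subgroup.coe_one]))
  have hconj : ∀ e : ℕ, k ^ e = 1 → ∀ c : P2, c⁻¹ * k * c ∈ stabilizer P2 p →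
      (c⁻¹ * k * c) ^ e = 1 ∧ c⁻¹ * k * c ≠ 1 := fun e he c _ => by
    refine ⟨by rw [show c⁻¹ * k * c = c⁻¹ * k * c⁻¹⁻¹ by rw [inv_inv], conj_pow, he]; group, fun h => hk1 ?_⟩
    rwa [show c⁻¹ * k * c = c⁻¹ * k * c⁻¹⁻¹ by rw [inv_inv], conj_eq_one_iff] at h
  rcases (alt_four_count (f ⟨k, hk⟩)).resolve_left ((map_ne_one_iff f f.injective).mpr hk') with e | e <;>
    rw [← map_pow, map_eq_one_iff f f.injective, Subtype.ext_iff, Subgroup.coe_pow, Subgroup.coe_one] at e
  · have hu := not_uni_of_small (e := 2) (by norm_num) h7 hk1 e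
    have h1 := card_fixedBy_mul_le k (fun h => h ^ 2 = 1 ∧ h ≠ 1) (hconj 2 e) (p := p)
    rw [hc, hcount 2, alt_four_card_two] at h1
    have h2 := card_centralizer_two h7 hu
    have : Fact (Nat.Prime 2) := ⟨Nat.prime_two⟩
    have h3 := fixedBy_modEq (Ω := Ω) 2 k e
    rw [hn14, Nat.ModEq] at h3
    omega
  · have hu := not_uni_of_small (e := 3) (by norm_num) h7 hk1 e
    have h1 := card_fixedBy_mul_le k (fun h => h ^ 3 = 1 ∧ h ≠ 1) (hconj 3 e) (p := p)
    rw [hc, hcount 3, alt_four_card_three] at h1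
    have h2 := card_centralizer_three h7 hu e
    have : Fact (Nat.Prime 3) := ⟨Nat.prime_three⟩
    have h3 := fixedBy_modEq (Ω := Ω) 3 k e
    rw [hn14, Nat.ModEq] at h3
    omega

/-- The action on the cosets of an alternating group of degree 4. -/
theorem not_binary_altFour (p : Ω) (f : stabilizer P2 p ≃* alternatingGroup (Fin 4)) :
    ¬ IsBinaryAct P2 Ω := by
  have hn := card_stabilizer_eq_div (G := P2) p
  rw [(Nat.card_congr f.toEquiv).trans card_alt_four, card_P2_seven h7] at hn
  refine not_binary_of_two_fixed (by omega) (card_P2_seven h7) (fun q k hk hk1 => ?_)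
  obtain ⟨g, rfl⟩ := exists_smul_eq P2 p q
  exact fixed_two_of_altFour h7 ((MulAction.stabilizerEquivStabilizer (g := g) rfl).symm.trans f) k hk hk1

/-- The action on the cosets of a symmetric group of degree 4. -/
theorem not_binary_symFour (p : Ω) (f : stabilizer P2 p ≃* Equiv.Perm (Fin 4)) :
    ¬ IsBinaryAct P2 Ω := by
  have hn := card_stabilizer_eq_div (G := P2) p
  rw [(Nat.card_congr f.toEquiv).trans card_sym_four, card_P2_seven h7] at hn
  have hn7 : Nat.card Ω = 7 := by omega
  refine not_binary_of_five (by rw [card_P2_seven h7]; norm_num) hn7 (fun a b c hb hc => ?_)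
  obtain ⟨g, rfl⟩ := exists_smul_eq P2 p a
  obtain ⟨f'⟩ : Nonempty (stabilizer P2 (g • p) ≃* Equiv.Perm (Fin 4)) :=
    ⟨(MulAction.stabilizerEquivStabilizer (g := g) rfl).symm.trans f⟩
  set H := stabilizer P2 (g • p)
  have hH : Nat.card H = 24 := (Nat.card_congr f'.toEquiv).trans card_sym_four
  -- elements of order 3 and 4 fix one point only
  have hone : ∀ k ∈ H, ((k ^ 3 = 1 ∧ k ≠ 1) ∨ (k ^ 4 = 1 ∧ k ^ 2 ≠ 1)) → ∀ x : Ω, k • x = x → x = g • p := by
    intro k hk hcase x hx
    suffices Nat.card (fixedBy Ω k) ≤ 1 by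
      have := (Finite.card_le_one_iff_subsingleton).mp this
      exact congrArg Subtype.val (Subsingleton.elim (⟨x, hx⟩ : fixedBy Ω k) ⟨g • p, hk⟩)
    have hcount : ∀ (P : P2 → Prop) (Q : Equiv.Perm (Fin 4) → Prop) [DecidablePred Q],
        (∀ h : H, P h ↔ Q (f' h)) →
        Nat.card {h : H // P h} = Fintype.card {a : Equiv.Perm (Fin 4) // Q a} := fun P Q _ hPQ => by
      rw [← Nat.card_eq_fintype_card]
      exact Nat.card_congr (Equiv.subtypeEquiv f'.toEquiv hPQ)
    have hpw : ∀ (e : ℕ) (h : H), (h : P2) ^ e = 1 ↔ f' h ^ e = 1 := fun e h => by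
      rw [← map_pow, map_eq_one_iff f' f'.injective, Subtype.ext_iff, Subgroup.coe_pow, Subgroup.coe_one]
    rcases hcase with ⟨e3, e1⟩ | ⟨e4, e2⟩
    · have hu := not_uni_of_small (e := 3) (by norm_num) h7 e1 e3
      have h1 := card_fixedBy_mul_le k (fun h => h ^ 3 = 1 ∧ h ≠ 1) (fun d _ => ?_) (p := g • p)
      · rw [hH, hcount (fun h => h ^ 3 = 1 ∧ h ≠ 1) (fun a => a ^ 3 = 1 ∧ a ≠ 1) (fun h => and_congr (hpw 3 h)
          (not_congr (by simpa using hpw 1 h))), perm_four_card_three] at h1
        have h2 := card_centralizer_three h7 hu e3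
        omega
      · refine ⟨by rw [show d⁻¹ * k * d = d⁻¹ * k * d⁻¹⁻¹ by rw [inv_inv], conj_pow, e3]; group, fun h => e1 ?_⟩
        rwa [show d⁻¹ * k * d = d⁻¹ * k * d⁻¹⁻¹ by rw [inv_inv], conj_eq_one_iff] at h
    · have hu := not_uni_of_small (e := 4) (by norm_num) h7 (fun e => e2 (by rw [e, one_pow])) e4
      have h1 := card_fixedBy_mul_le k (fun h => h ^ 4 = 1 ∧ h ^ 2 ≠ 1) (fun d _ => ?_) (p := g • p)
      · rw [hH, hcount (fun h => h ^ 4 = 1 ∧ h ^ 2 ≠ 1) (fun a => a ^ 4 = 1 ∧ a ^ 2 ≠ 1)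
          (fun h => and_congr (hpw 4 h) (not_congr (hpw 2 h))), perm_four_card_four] at h1
        have h2 := card_centralizer_four h7 hu e4 e2
        omega
      · refine ⟨by rw [show d⁻¹ * k * d = d⁻¹ * k * d⁻¹⁻¹ by rw [inv_inv], conj_pow, e4]; group, fun h => e2 ?_⟩
        rwa [show d⁻¹ * k * d = d⁻¹ * k * d⁻¹⁻¹ by rw [inv_inv], conj_pow, conj_eq_one_iff] at h
  have horbit : ∀ x : Ω, x ≠ g • p → 6 ≤ Nat.card (MulAction.orbit H x) := by
    intro x hx
    set K := stabilizer H x
    have hK : ∀ k ∈ K, k * k = 1 := by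
      intro k hk
      by_contra h
      have hne : (k : P2) ^ 2 ≠ 1 := fun e => h (Subtype.ext (by simpa [sq] using e))
      rcases perm_four_order (f' k) with e | e | e <;>
        rw [← map_pow, map_eq_one_iff f' f'.injective, Subtype.ext_iff, Subgroup.coe_pow, Subgroup.coe_one] at e
      · exact hne e
      · exact hx (hone k k.2 (Or.inl ⟨e, fun h1 => hne (by rw [h1, one_pow])⟩) x hk)
      · exact hx (hone k k.2 (Or.inr ⟨e, hne⟩) x hk)
    have hcK : Nat.card K ≤ 4 := by
      have hd : Nat.card K ∣ 24 := hH ▸ K.card_subgroup_dvd_card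
      have h3 : ¬ 3 ∣ Nat.card K := fun h3 => by
        have : Fact (Nat.Prime 3) := ⟨Nat.prime_three⟩
        obtain ⟨k, hk⟩ := exists_prime_orderOf_dvd_card' 3 h3
        have := Nat.le_of_dvd two_pos (hk ▸ orderOf_dvd_of_pow_eq_one (Subtype.ext (by
          rw [Subgroup.coe_pow, sq]; exact hK k k.2) : k ^ 2 = 1))
        omega
      by_contra hgt
      have h8 : Nat.card K = 8 := by
        have := Nat.le_of_dvd (by norm_num) hd
        generalize Nat.card K = m at *
        interval_cases m <;> omega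
      have : Fact (Nat.Prime 2) := ⟨Nat.prime_two⟩
      obtain ⟨w, hw⟩ := exists_prime_orderOf_dvd_card' (G := K) 2 (by rw [h8]; norm_num)
      have hw1 : ((w : H) : P2) ≠ 1 := fun e => by
        rw [show w = 1 from Subtype.ext (Subtype.ext e), orderOf_one] at hw
        norm_num at hw
      have hw2 : ((w : H) : P2) ^ 2 = 1 := by
        have := congrArg Subtype.val (hK (w : H) w.2)
        simpa [sq] using this
      have hu := not_uni_of_small (e := 2) (by norm_num) h7 hw1 hw2
      set L : Subgroup P2 := K.map H.subtype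
      have hL : L ≤ Subgroup.normalizer (cen ((w : H) : P2) : Set P2) := by
        rintro _ ⟨k, hk, rfl⟩
        refine centralizer_le_normalizer _ ?_
        rw [Subgroup.mem_centralizer_singleton_iff]
        have e1 := hK k hk
        have e2 := hK _ w.2
        have e3 := hK _ (K.mul_mem hk w.2)
        have : k * (w : H) = (w : H) * k := by
          calc k * (w : H) = (k * (w : H))⁻¹ := eq_inv_of_mul_eq_one_left e3
            _ = (w : H)⁻¹ * k⁻¹ := mul_inv_rev _ _
            _ = _ := by rw [inv_eq_of_mul_eq_one_right e1, inv_eq_of_mul_eq_one_right e2]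
        exact congrArg Subtype.val this
      have hcen : Nat.card (cen ((w : H) : P2)) = 4 := by
        refine (card_cen_seven h7 hu).resolve_left fun e => ?_
        have := Subgroup.orderOf_dvd_natCard (cen ((w : H) : P2)) (mem_cen_self _)
        rw [e, orderOf_eq_prime hw2 hw1] at this
        norm_num at this
      have hLN := Subgroup.eq_of_le_of_card_ge hL (by
        rw [(torus_normalizer_props hu).1, hcen, Subgroup.card_map_of_injective H.subtype_injective, h8])
      obtain ⟨t, ht, ht2⟩ := exists_sq_ne_one (by omega) hu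
      have htL : t ∈ L := hLN ▸ Subgroup.le_normalizer ht
      obtain ⟨k, hk, rfl⟩ := htL
      exact ht2 (congrArg Subtype.val (hK k hk))
    have h1 := MulAction.orbitEquivQuotientStabilizer H x
    rw [Nat.card_congr h1]
    have := K.index_mul_card
    rw [hH] at this
    show 6 ≤ K.index
    nlinarith
  obtain ⟨⟨k, hk⟩, hkc⟩ : c ∈ MulAction.orbit H b := by
    classical
    have : Fintype Ω := Fintype.ofFinite Ω
    have hsub : MulAction.orbit H b ⊆ {g • p}ᶜ := by
      rintro _ ⟨k, rfl⟩ e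
      exact hb (MulAction.injective (k : P2) ((show (k : P2) • b = g • p from e).trans
        (mem_stabilizer_iff.mp k.2).symm))
    have := Set.eq_of_subset_of_ncard_le hsub (by
      rw [Set.ncard_compl, Set.ncard_singleton, hn7, ← Nat.card_coe_set_eq]
      exact horbit b hb)
    rw [this]
    exact hc
  exact ⟨k, hk, hkc⟩

end PSL

end Cfsg.Agent.H33.Binary
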